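import Mathlib.Algebra.Module.LinearMap.End
import Mathlib.GroupTheory.PGroup
import Mathlib.GroupTheory.Sylow
import Mathlib.GroupTheory.Index
import Mathlib.GroupTheory.OrderOfElement
import Cfsg.Agent.Lib.Components.Quasisimple
import Cfsg.Prelude.Def_Transfer
import Mathlib.Data.Set.Finite.Lattice

/-!
# Operators on a finite abelian group of exponent `p`

Setting: `V` a finite abelian group, `p • V = 0`, subgroups of `(Module.End ℤ V)ˣ`.

* `eq_of_sq_sub_mul`: a `p'`-element `k` with `(k - 1)² T = 0` has `k T = T`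
* `fixed B`, `Best B`: fixed points; `|C||V_C| ≤ |B||V_B|` for all `C ≤ B`
* `timmesfeld`: a best `A` contains a nontrivial quadratic best subgroup centralising `[V, A]`
* quasisimple subgroups: `qs_eq_top`, `qs_exists_coprime_not_central`, `qs_commute_of_kill`
-/

set_option autoImplicit false
set_option linter.style.haveILetI false
set_option linter.unusedSectionVars false

namespace Cfsg.Agent.PGV

universe u

open scoped commutatorElement

section Ring

variable {R : Type*} [Ring R] {p : ℕ}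

/-- If `(k - 1)² T = 0` and `k ^ n = 1` with `n` prime to the characteristic, then `k T = T`. -/
theorem eq_of_sq_sub_mul (hp : (p : R) = 0) {k T : R} {n : ℕ} (hk : k ^ n = 1)
    (hn : n.Coprime p) (h : (k - 1) * ((k - 1) * T) = 0) : k * T = T := by
  set U := (k - 1) * T with hU
  have hkU : k * U = U := by rwa [sub_mul, one_mul, sub_eq_zero] at h
  have hpow : ∀ i : ℕ, k ^ i * U = U := by
    intro i
    induction i with
    | zero => rw [pow_zero, one_mul]
    | succ i ih => rw [pow_succ, mul_assoc, hkU, ih]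
  have hmul : ∀ i : ℕ, k ^ i * T = T + (i : R) * U := by
    intro i
    induction i with
    | zero => simp
    | succ i ih =>
      have h1 : k * T = T + U := by rw [hU, sub_mul, one_mul]; abel
      rw [pow_succ, mul_assoc, h1, mul_add, ih, hpow i, Nat.cast_succ, add_mul, one_mul, add_assoc]
  have hnU : (n : R) * U = 0 := by
    have := hmul n
    rwa [hk, one_mul, eq_comm, add_eq_left] at this
  have hU0 : U = 0 := by
    have h1 : ((Nat.gcd n p : ℕ) : R) * U = 0 := by
      obtain ⟨a, b, hab⟩ : ∃ a b : ℤ, (n : ℤ) * a + (p : ℤ) * b = 1 := by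
        refine ⟨Nat.gcdA n p, Nat.gcdB n p, ?_⟩
        rw [← Nat.gcd_eq_gcd_ab, hn.gcd_eq_one]; norm_num
      have h2 := congrArg (fun z : ℤ => (z : R)) hab
      simp only [Int.cast_add, Int.cast_mul, Int.cast_natCast, hp, zero_mul, add_zero,
        Int.cast_one] at h2
      rw [hn.gcd_eq_one, Nat.cast_one, ← h2, Nat.cast_comm, mul_assoc, hnU, mul_zero]
    rwa [hn.gcd_eq_one, Nat.cast_one, one_mul] at h1
  rwa [hU, sub_mul, one_mul, sub_eq_zero] at hU0

theorem eq_of_sq_sub (hp : (p : R) = 0) {k : R} {n : ℕ} (hk : k ^ n = 1)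
    (hn : n.Coprime p) (h : (k - 1) * (k - 1) = 0) : k = 1 := by
  have := eq_of_sq_sub_mul (T := 1) hp hk hn (by rwa [mul_one])
  rwa [mul_one] at this

end Ring

variable {V : Type u} [AddCommGroup V] {p : ℕ}

theorem natCast_end_eq_zero (hp : ∀ v : V, p • v = 0) : (p : Module.End ℤ V) = 0 :=
  LinearMap.ext fun v => by rw [Module.End.natCast_apply, LinearMap.zero_apply]; exact hp v

theorem unit_mul_apply (g h : (Module.End ℤ V)ˣ) (v : V) :
    ((g * h : (Module.End ℤ V)ˣ) : Module.End ℤ V) v =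
      (g : Module.End ℤ V) ((h : Module.End ℤ V) v) := rfl

theorem unit_one_apply (v : V) : ((1 : (Module.End ℤ V)ˣ) : Module.End ℤ V) v = v := rfl

theorem unit_inv_apply (g : (Module.End ℤ V)ˣ) (v : V) :
    ((g⁻¹ : (Module.End ℤ V)ˣ) : Module.End ℤ V) ((g : Module.End ℤ V) v) = v := by
  rw [← unit_mul_apply, inv_mul_cancel, unit_one_apply]

theorem unit_apply_inv (g : (Module.End ℤ V)ˣ) (v : V) :
    (g : Module.End ℤ V) (((g⁻¹ : (Module.End ℤ V)ˣ) : Module.End ℤ V) v) = v := by
  rw [← unit_mul_apply, mul_inv_cancel, unit_one_apply]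

theorem unit_injective (g : (Module.End ℤ V)ˣ) : Function.Injective (g : Module.End ℤ V) :=
  Function.LeftInverse.injective (unit_inv_apply g)

theorem apply_comm_of_commute {g h : (Module.End ℤ V)ˣ} (hc : Commute g h) (v : V) :
    (g : Module.End ℤ V) ((h : Module.End ℤ V) v) =
      (h : Module.End ℤ V) ((g : Module.End ℤ V) v) := by
  rw [← unit_mul_apply, hc.eq, unit_mul_apply]

theorem apply_pow_eq_self {g : Module.End ℤ V} {v : V} (h : g v = v) (i : ℕ) : (g ^ i) v = v := by
  induction i with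
  | zero => rfl
  | succ i ih => rw [pow_succ, Module.End.mul_apply, h, ih]

/-- A `p'`-element with `(k - 1)² v = 0` fixes `v`. -/
theorem apply_eq_of_sq_sub (hp : ∀ v : V, p • v = 0) {k : (Module.End ℤ V)ˣ}
    (hk : (orderOf k).Coprime p) {v : V}
    (h : (k : Module.End ℤ V) ((k : Module.End ℤ V) v - v) = (k : Module.End ℤ V) v - v) :
    (k : Module.End ℤ V) v = v := by
  set E := (k : Module.End ℤ V)
  have hmul : ∀ i : ℕ, (E ^ i) v = v + i • (E v - v) := by
    intro i
    induction i with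
    | zero => simp
    | succ i ih =>
      rw [pow_succ', Module.End.mul_apply, ih, map_add, map_nsmul, h, succ_nsmul]
      abel
  have h1 := hmul (orderOf k)
  rw [← Units.val_pow_eq_pow_val, pow_orderOf_eq_one, unit_one_apply, eq_comm, add_eq_left] at h1
  have h2 : addOrderOf (E v - v) = 1 :=
    Nat.eq_one_of_dvd_coprimes hk (addOrderOf_dvd_of_nsmul_eq_zero h1)
      (addOrderOf_dvd_of_nsmul_eq_zero (hp _))
  exact sub_eq_zero.mp (AddMonoid.addOrderOf_eq_one_iff.mp h2)

/-- Fixed points of a subgroup of operators. -/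
def fixed (B : Subgroup (Module.End ℤ V)ˣ) : AddSubgroup V where
  carrier := {v | ∀ b ∈ B, (b : Module.End ℤ V) v = v}
  zero_mem' _ _ := map_zero _
  add_mem' hv hw b hb := by rw [map_add, hv b hb, hw b hb]
  neg_mem' hv b hb := by rw [map_neg, hv b hb]

theorem mem_fixed {B : Subgroup (Module.End ℤ V)ˣ} {v : V} :
    v ∈ fixed B ↔ ∀ b ∈ B, (b : Module.End ℤ V) v = v := Iff.rfl

theorem fixed_antitone {B C : Subgroup (Module.End ℤ V)ˣ} (h : B ≤ C) : fixed C ≤ fixed B :=
  fun _ hv b hb => hv b (h hb)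

theorem fixed_bot : fixed (⊥ : Subgroup (Module.End ℤ V)ˣ) = ⊤ :=
  eq_top_iff.mpr fun v _ b hb => by rw [Subgroup.mem_bot.mp hb, unit_one_apply]

theorem fixed_sup (B C : Subgroup (Module.End ℤ V)ˣ) : fixed (B ⊔ C) = fixed B ⊓ fixed C := by
  refine le_antisymm (le_inf (fixed_antitone le_sup_left) (fixed_antitone le_sup_right)) ?_
  intro v hv
  let S : Subgroup (Module.End ℤ V)ˣ :=
    { carrier := {g | (g : Module.End ℤ V) v = v}
      one_mem' := rfl
      mul_mem' := fun {g h} hg hh => by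
        show ((g * h : (Module.End ℤ V)ˣ) : Module.End ℤ V) v = v
        rw [unit_mul_apply, (show (h : Module.End ℤ V) v = v from hh)]
        exact hg
      inv_mem' := fun {g} hg => by
        show ((g⁻¹ : (Module.End ℤ V)ˣ) : Module.End ℤ V) v = v
        conv_lhs => rw [← (show (g : Module.End ℤ V) v = v from hg)]
        exact unit_inv_apply g v }
  exact fun b hb => (sup_le (fun g hg => hv.1 g hg) (fun g hg => hv.2 g hg) : B ⊔ C ≤ S) hb

/-- `|C| |V_C| ≤ |B| |V_B|` for every `C ≤ B`. -/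
def Best (B : Subgroup (Module.End ℤ V)ˣ) : Prop :=
  ∀ C : Subgroup (Module.End ℤ V)ˣ, C ≤ B →
    Nat.card C * Nat.card (fixed C) ≤ Nat.card B * Nat.card (fixed B)

theorem Best.card_le {B : Subgroup (Module.End ℤ V)ˣ} (h : Best B) :
    Nat.card V ≤ Nat.card B * Nat.card (fixed B) := by
  have := h ⊥ bot_le
  rwa [Subgroup.card_bot, one_mul, fixed_bot, AddSubgroup.card_top] at this

/-! ### Timmesfeld replacement -/

section Timmesfeld

variable [Finite V]

instance finite_units : Finite (Module.End ℤ V)ˣ :=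
  Finite.of_injective (fun g : (Module.End ℤ V)ˣ => ((g : Module.End ℤ V) : V → V))
    fun _ _ h => Units.ext (DFunLike.coe_injective h)

theorem card_inf_mul_card_sup {G : Type*} [Group G] [Finite G] {A : Subgroup G}
    (hA : IsMulCommutative A) {B C : Subgroup G} (hB : B ≤ A) (hC : C ≤ A) :
    Nat.card ↥(B ⊔ C) * Nat.card ↥(B ⊓ C) = Nat.card B * Nat.card C := by
  haveI : (B.subgroupOf A).Normal := Subgroup.normal_of_isMulCommutative _
  have key : B.relIndex (B ⊔ C) = B.relIndex C := by
    have h := Subgroup.relIndex_sup_right (C.subgroupOf A) (B.subgroupOf A)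
    rwa [sup_comm, ← Subgroup.subgroupOf_sup hB hC, Subgroup.relIndex_subgroupOf (sup_le hB hC),
      Subgroup.relIndex_subgroupOf hC] at h
  have h1 := Subgroup.relIndex_mul_relIndex ⊥ B (B ⊔ C) bot_le le_sup_left
  have h2 := Subgroup.relIndex_mul_relIndex ⊥ (B ⊓ C) C bot_le inf_le_right
  rw [Subgroup.relIndex_bot_left, Subgroup.relIndex_bot_left, key] at h1
  rw [Subgroup.relIndex_bot_left, Subgroup.relIndex_bot_left, Subgroup.inf_relIndex_right] at h2
  rw [← h1, ← h2]
  ring

/-- Fixed-point subgroups multiply as in a lattice. -/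
theorem card_fixed_mul (B C : Subgroup (Module.End ℤ V)ˣ) :
    Nat.card (fixed B) * Nat.card (fixed C) ≤ Nat.card (fixed (B ⊓ C)) * Nat.card (fixed (B ⊔ C)) := by
  have hle : fixed B ⊔ fixed C ≤ fixed (B ⊓ C) :=
    sup_le (fixed_antitone inf_le_left) (fixed_antitone inf_le_right)
  have h1 := AddSubgroup.relIndex_mul_relIndex ⊥ (fixed B) (fixed B ⊔ fixed C) bot_le le_sup_left
  have h2 := AddSubgroup.relIndex_mul_relIndex ⊥ (fixed B ⊓ fixed C) (fixed C) bot_le inf_le_right
  rw [AddSubgroup.relIndex_bot_left, AddSubgroup.relIndex_bot_left,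
    AddSubgroup.relIndex_sup_left] at h1
  rw [AddSubgroup.relIndex_bot_left, AddSubgroup.relIndex_bot_left,
    AddSubgroup.inf_relIndex_right] at h2
  calc Nat.card (fixed B) * Nat.card (fixed C)
      = Nat.card ↥(fixed B ⊔ fixed C) * Nat.card (fixed (B ⊔ C)) := by
        rw [fixed_sup, ← h1, ← h2]; ring
    _ ≤ _ := Nat.mul_le_mul_right _ (AddSubgroup.card_le_of_le hle)

/-- `(a - 1) V` summed over `a ∈ A`. -/
def comms (A : Subgroup (Module.End ℤ V)ˣ) : AddSubgroup V :=
  AddSubgroup.closure {w | ∃ a ∈ A, ∃ v, w = (a : Module.End ℤ V) v - v}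

/-- The elements of `A` fixing a given set pointwise. -/
def stab (A : Subgroup (Module.End ℤ V)ˣ) (S : Set V) : Subgroup (Module.End ℤ V)ˣ where
  carrier := {g | g ∈ A ∧ ∀ v ∈ S, (g : Module.End ℤ V) v = v}
  one_mem' := ⟨one_mem A, fun _ _ => rfl⟩
  mul_mem' := fun hg hh => ⟨mul_mem hg.1 hh.1, fun v hv => by
    rw [unit_mul_apply, hh.2 v hv, hg.2 v hv]⟩
  inv_mem' := fun {g} hg => ⟨inv_mem hg.1, fun v hv => by
    conv_lhs => rw [← hg.2 v hv]
    exact unit_inv_apply g v⟩

theorem stab_le (A : Subgroup (Module.End ℤ V)ˣ) (S : Set V) : stab A S ≤ A := fun _ h => h.1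

/-- A `p`-group fixes a nonzero vector of a nonzero invariant finite `p`-group. -/
theorem exists_fixed_ne_zero [Fact p.Prime] (hp : ∀ v : V, p • v = 0)
    {A : Subgroup (Module.End ℤ V)ˣ} (hA : IsPGroup p A) (W : AddSubgroup V) (hW : W ≠ ⊥)
    (hinv : ∀ a ∈ A, ∀ w ∈ W, (a : Module.End ℤ V) w ∈ W) :
    ∃ w ∈ W, w ≠ 0 ∧ ∀ a ∈ A, (a : Module.End ℤ V) w = w := by
  letI : MulAction A W :=
    { smul := fun a w => ⟨((a : (Module.End ℤ V)ˣ) : Module.End ℤ V) w, hinv a a.2 w w.2⟩
      one_smul := fun w => Subtype.ext rfl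
      mul_smul := fun a b w => Subtype.ext rfl }
  have h0 : (0 : W) ∈ MulAction.fixedPoints A W := fun a => Subtype.ext (map_zero _)
  haveI : Nontrivial W := (AddSubgroup.nontrivial_iff_ne_bot W).mpr hW
  have hdvd : p ∣ Nat.card W := by
    obtain ⟨w, hw⟩ := exists_ne (0 : W)
    have h1 : addOrderOf w = p := addOrderOf_eq_prime (Subtype.ext (by simpa using hp w)) hw
    exact h1 ▸ addOrderOf_dvd_natCard w
  obtain ⟨w, hw, hne⟩ := hA.exists_fixed_point_of_prime_dvd_card_of_fixed_point W hdvd h0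
  exact ⟨w, w.2, fun h => hne (Subtype.ext h.symm), fun a ha => congrArg Subtype.val (hw ⟨a, ha⟩)⟩

/-- A `p`-group of operators has `V ≠ C_V(A) + [V, A]` unless trivial. -/
theorem eq_bot_of_fixed_sup_comms [Fact p.Prime] (hp : ∀ v : V, p • v = 0)
    {A : Subgroup (Module.End ℤ V)ˣ} (hA : IsPGroup p A)
    (h : fixed A ⊔ comms A = ⊤) : A = ⊥ := by
  by_contra hne
  have hfix : fixed A ≠ ⊤ := by
    intro htop
    refine hne ((Subgroup.eq_bot_iff_forall A).mpr fun a ha => Units.ext (LinearMap.ext fun v => ?_))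
    have hv : v ∈ fixed A := htop ▸ AddSubgroup.mem_top v
    exact hv a ha
  let S : Set (AddSubgroup V) :=
    {W | fixed A ≤ W ∧ W ≠ ⊤ ∧ ∀ a ∈ A, ∀ w ∈ W, (a : Module.End ℤ V) w ∈ W}
  obtain ⟨W, hW⟩ := Set.Finite.exists_maximal (s := S) (Set.toFinite _)
    ⟨fixed A, le_rfl, hfix, fun a ha w hw => by rwa [hw a ha]⟩
  obtain ⟨hfW, hWt, hinv⟩ := hW.prop
  -- a nonzero fixed point of `A` on `V ⧸ W`
  letI : MulAction A (V ⧸ W) :=
    { smul := fun a q => QuotientAddGroup.map W W
        (((a : (Module.End ℤ V)ˣ) : Module.End ℤ V).toAddMonoidHom) (hinv a a.2) q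
      one_smul := fun q => QuotientAddGroup.induction_on q fun v => rfl
      mul_smul := fun a b q => QuotientAddGroup.induction_on q fun v => rfl }
  obtain ⟨v₀, hv₀⟩ : ∃ v, v ∉ W := by
    by_contra hc
    push Not at hc
    exact hWt (eq_top_iff.mpr fun v _ => hc v)
  have hdvd : p ∣ Nat.card (V ⧸ W) := by
    have h1 : addOrderOf (v₀ : V ⧸ W) = p :=
      addOrderOf_eq_prime (by rw [← QuotientAddGroup.mk_nsmul, hp]; rfl)
        (fun hc => hv₀ ((QuotientAddGroup.eq_zero_iff v₀).mp hc))
    exact h1 ▸ addOrderOf_dvd_natCard (v₀ : V ⧸ W)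
  obtain ⟨q, hq, hne0⟩ := hA.exists_fixed_point_of_prime_dvd_card_of_fixed_point (V ⧸ W) hdvd
    (show (0 : V ⧸ W) ∈ MulAction.fixedPoints A (V ⧸ W) from fun a => map_zero _)
  obtain ⟨v, rfl⟩ := QuotientAddGroup.mk_surjective q
  let W' : AddSubgroup V :=
    { carrier := {x | ∀ a ∈ A, (a : Module.End ℤ V) x - x ∈ W}
      zero_mem' := fun a _ => by rw [map_zero, sub_zero]; exact zero_mem W
      add_mem' := fun hx hy a ha => by
        rw [map_add, add_sub_add_comm]
        exact add_mem (hx a ha) (hy a ha)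
      neg_mem' := fun {x} hx a ha => by
        rw [map_neg, show -(a : Module.End ℤ V) x - -x = -((a : Module.End ℤ V) x - x) by abel]
        exact neg_mem (hx a ha) }
  have hWW' : W ≤ W' := fun w hw a ha => sub_mem (hinv a ha w hw) hw
  have hvW' : v ∈ W' := fun a ha => by
    have h1 : (((a : Module.End ℤ V) v : V) : V ⧸ W) = (v : V ⧸ W) := hq ⟨a, ha⟩
    exact (QuotientAddGroup.eq_iff_sub_mem).mp h1
  have hW't : W' = ⊤ := by
    by_contra hne'
    have hmem : W' ∈ S := ⟨hfW.trans hWW', hne', fun a ha w hw => by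
      have := add_mem (hWW' (hw a ha)) hw
      rwa [sub_add_cancel] at this⟩
    exact hne0 ((QuotientAddGroup.eq_zero_iff v).mpr (hW.le_of_ge hmem hWW' hvW')).symm
  have hcW : comms A ≤ W := by
    refine (AddSubgroup.closure_le W).mpr ?_
    rintro _ ⟨a, ha, x, rfl⟩
    have hx : x ∈ W' := hW't ▸ AddSubgroup.mem_top x
    exact hx a ha
  exact hWt (eq_top_iff.mpr (h ▸ sup_le hfW hcW))

/-- **Timmesfeld replacement**: `C_A([V, A])` is again best, nontrivial, and quadratic. -/
theorem timmesfeld [Fact p.Prime] (hp : ∀ v : V, p • v = 0)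
    {A : Subgroup (Module.End ℤ V)ˣ} (hA : Cfsg.IsElementaryAbelian p A) (hne : A ≠ ⊥)
    (hbest : Best A) :
    Best (stab A (comms A : Set V)) ∧ stab A (comms A : Set V) ≠ ⊥ := by
  classical
  have hcomm : ∀ a ∈ A, ∀ b ∈ A, Commute a b := fun a ha b hb =>
    congrArg Subtype.val (hA.1.is_comm.comm ⟨a, ha⟩ ⟨b, hb⟩)
  set m := Nat.card A * Nat.card (fixed A)
  let P : Set V → Prop := fun X =>
    Nat.card (stab A X) * Nat.card (fixed (stab A X)) = m ∧
      fixed (stab A X) = fixed A ⊔ AddSubgroup.closure X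
  -- one vector
  have single : ∀ v : V, P {w | ∃ a ∈ A, w = (a : Module.End ℤ V) v - v} := by
    intro v
    set X := {w | ∃ a ∈ A, w = (a : Module.End ℤ V) v - v} with hX
    set U := fixed A ⊔ AddSubgroup.closure X
    set B := stab A X with hB
    have hU : U ≤ fixed B :=
      sup_le (fixed_antitone (stab_le A X))
        ((AddSubgroup.closure_le _).mpr fun w hw b hb => hb.2 w hw)
    let f : ↥A ⧸ B.subgroupOf A → ↥U ⧸ (fixed A).addSubgroupOf U :=
      Quotient.lift (fun a : A => QuotientAddGroup.mk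
        (⟨((a : (Module.End ℤ V)ˣ) : Module.End ℤ V) v - v,
          AddSubgroup.mem_sup_right (AddSubgroup.subset_closure ⟨a, a.2, rfl⟩)⟩ : U)) (by
        intro a b hab
        change (QuotientGroup.leftRel (B.subgroupOf A)) a b at hab
        rw [QuotientGroup.leftRel_apply] at hab
        rw [QuotientAddGroup.eq_iff_sub_mem, AddSubgroup.mem_addSubgroupOf]
        intro e he
        set c := (a : (Module.End ℤ V)ˣ)⁻¹ * b with hc
        have hc' : c ∈ B := hab
        have hbv : ((b : (Module.End ℤ V)ˣ) : Module.End ℤ V) v =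
            ((a : (Module.End ℤ V)ˣ) : Module.End ℤ V) ((c : Module.End ℤ V) v) := by
          rw [← unit_mul_apply, hc, mul_inv_cancel_left]
        have hfix : (e : Module.End ℤ V) ((c : Module.End ℤ V) v - v) = (c : Module.End ℤ V) v - v := by
          have h1 := hc'.2 ((e : Module.End ℤ V) v - v) ⟨e, he, rfl⟩
          rw [map_sub, apply_comm_of_commute (hcomm c hc'.1 e he)] at h1
          rw [map_sub, ← sub_eq_zero]
          rw [← sub_eq_zero] at h1
          rw [← h1]
          abel
        have hae := apply_comm_of_commute (hcomm e he a a.2)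
        show (e : Module.End ℤ V) _ = _
        simp only [AddSubgroup.coe_sub, hbv]
        rw [show ((a : (Module.End ℤ V)ˣ) : Module.End ℤ V) v - v -
            (((a : (Module.End ℤ V)ˣ) : Module.End ℤ V) ((c : Module.End ℤ V) v) - v) =
            -((a : (Module.End ℤ V)ˣ) : Module.End ℤ V) ((c : Module.End ℤ V) v - v) by
              rw [map_sub]; abel, map_neg, hae, hfix])
    have hf : Function.Injective f := by
      rintro ⟨a⟩ ⟨b⟩ hab
      refine Quotient.sound ?_
      show (QuotientGroup.leftRel (B.subgroupOf A)) a b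
      rw [QuotientGroup.leftRel_apply]
      refine ⟨(a⁻¹ * b : A).2, ?_⟩
      rintro _ ⟨e, he, rfl⟩
      have h1 := (QuotientAddGroup.eq_iff_sub_mem).mp hab e he
      change (e : Module.End ℤ V) ((((a : (Module.End ℤ V)ˣ) : Module.End ℤ V) v - v) - (((b : (Module.End ℤ V)ˣ) : Module.End ℤ V) v - v)) = (((a : (Module.End ℤ V)ˣ) : Module.End ℤ V) v - v) - (((b : (Module.End ℤ V)ˣ) : Module.End ℤ V) v - v) at h1
      simp only [sub_sub_sub_cancel_right] at h1
      have haec := hcomm e he a a.2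
      have hbec := hcomm e he b b.2
      -- `e` fixes `a v - b v`, so `a⁻¹ b` fixes `e v - v`
      show (((a : (Module.End ℤ V)ˣ)⁻¹ * b : (Module.End ℤ V)ˣ) : Module.End ℤ V) _ = _
      apply unit_injective (a : (Module.End ℤ V)ˣ)
      rw [← unit_mul_apply, mul_inv_cancel_left, map_sub, map_sub,
        ← apply_comm_of_commute hbec, ← apply_comm_of_commute haec]
      rw [map_sub] at h1
      rw [← sub_eq_zero] at h1 ⊢
      rw [← neg_eq_zero, ← h1]
      abel
    have hcard := Nat.card_le_card_of_injective f hf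
    have e1 : Nat.card A = Nat.card (↥A ⧸ B.subgroupOf A) * Nat.card B := by
      rw [Subgroup.card_eq_card_quotient_mul_card_subgroup (B.subgroupOf A),
        Nat.card_congr (Subgroup.subgroupOfEquivOfLe (stab_le A X)).toEquiv]
    have e2 : Nat.card U = Nat.card (↥U ⧸ (fixed A).addSubgroupOf U) * Nat.card (fixed A) := by
      rw [AddSubgroup.card_eq_card_quotient_mul_card_addSubgroup ((fixed A).addSubgroupOf U),
        Nat.card_congr (AddSubgroup.addSubgroupOfEquivOfLe le_sup_left).toEquiv]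
    have hm : m ≤ Nat.card B * Nat.card U := by
      show Nat.card A * Nat.card (fixed A) ≤ _
      rw [e1, e2]
      calc _ = Nat.card (↥A ⧸ B.subgroupOf A) * (Nat.card B * Nat.card (fixed A)) := by ring
        _ ≤ Nat.card (↥U ⧸ (fixed A).addSubgroupOf U) * (Nat.card B * Nat.card (fixed A)) :=
          Nat.mul_le_mul_right _ hcard
        _ = _ := by ring
    have hle := AddSubgroup.card_le_of_le hU
    have heq := le_antisymm (hbest B (stab_le A X)) (hm.trans (Nat.mul_le_mul_left _ hle))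
    refine ⟨heq, (AddSubgroup.eq_of_le_of_card_ge hU ?_).symm⟩
    exact Nat.le_of_mul_le_mul_left (heq.le.trans hm) Nat.card_pos
  -- the union of two sets
  have union : ∀ X Y : Set V, P X → P Y → P (X ∪ Y) := by
    intro X Y hX hY
    have hst : stab A (X ∪ Y) = stab A X ⊓ stab A Y := by
      ext g
      exact ⟨fun h => ⟨⟨h.1, fun v hv => h.2 v (Or.inl hv)⟩, ⟨h.1, fun v hv => h.2 v (Or.inr hv)⟩⟩,
        fun h => ⟨h.1.1, fun v hv => hv.elim (h.1.2 v) (h.2.2 v)⟩⟩
    have h1 := card_inf_mul_card_sup hA.1 (stab_le A X) (stab_le A Y)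
    have h2 := card_fixed_mul (stab A X) (stab A Y)
    have h3 := hbest (stab A X ⊓ stab A Y) (inf_le_left.trans (stab_le A X))
    have h4 := hbest (stab A X ⊔ stab A Y) (sup_le (stab_le A X) (stab_le A Y))
    have hmm : m * m ≤ (Nat.card ↥(stab A X ⊓ stab A Y) * Nat.card (fixed (stab A X ⊓ stab A Y))) *
        (Nat.card ↥(stab A X ⊔ stab A Y) * Nat.card (fixed (stab A X ⊔ stab A Y))) := by
      calc m * m = (Nat.card (stab A X) * Nat.card (fixed (stab A X))) *
            (Nat.card (stab A Y) * Nat.card (fixed (stab A Y))) := by rw [hX.1, hY.1]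
        _ = (Nat.card (stab A X) * Nat.card (stab A Y)) *
            (Nat.card (fixed (stab A X)) * Nat.card (fixed (stab A Y))) := by ring
        _ ≤ (Nat.card (stab A X) * Nat.card (stab A Y)) *
            (Nat.card (fixed (stab A X ⊓ stab A Y)) * Nat.card (fixed (stab A X ⊔ stab A Y))) :=
          Nat.mul_le_mul_left _ h2
        _ = _ := by rw [← h1]; ring
    have hm0 : 0 < m := Nat.mul_pos Nat.card_pos Nat.card_pos
    have heq : Nat.card ↥(stab A X ⊓ stab A Y) * Nat.card (fixed (stab A X ⊓ stab A Y)) = m :=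
      le_antisymm h3 (Nat.le_of_mul_le_mul_right (hmm.trans (Nat.mul_le_mul_left _ h4)) hm0)
    refine ⟨hst ▸ heq, ?_⟩
    rw [hst]
    have hU : fixed (stab A X) ⊔ fixed (stab A Y) ≤ fixed (stab A X ⊓ stab A Y) :=
      sup_le (fixed_antitone inf_le_left) (fixed_antitone inf_le_right)
    rw [AddSubgroup.closure_union, ← show fixed (stab A X) ⊔ fixed (stab A Y) =
      fixed A ⊔ (AddSubgroup.closure X ⊔ AddSubgroup.closure Y) by rw [hX.2, hY.2, sup_sup_sup_comm,
        sup_idem]]
    refine (AddSubgroup.eq_of_le_of_card_ge hU ?_).symm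
    -- equality in `card_fixed_mul`
    have k1 := AddSubgroup.relIndex_mul_relIndex ⊥ (fixed (stab A X))
      (fixed (stab A X) ⊔ fixed (stab A Y)) bot_le le_sup_left
    have k2 := AddSubgroup.relIndex_mul_relIndex ⊥ (fixed (stab A X) ⊓ fixed (stab A Y))
      (fixed (stab A Y)) bot_le inf_le_right
    rw [AddSubgroup.relIndex_bot_left, AddSubgroup.relIndex_bot_left,
      AddSubgroup.relIndex_sup_left] at k1
    rw [AddSubgroup.relIndex_bot_left, AddSubgroup.relIndex_bot_left,
      AddSubgroup.inf_relIndex_right, ← fixed_sup] at k2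
    have hpos1 : 0 < Nat.card ↥(fixed (stab A X ⊔ stab A Y)) := Nat.card_pos
    have hpos2 : 0 < Nat.card ↥(stab A X ⊓ stab A Y) * Nat.card ↥(stab A X ⊔ stab A Y) :=
      Nat.mul_pos Nat.card_pos Nat.card_pos
    refine Nat.le_of_mul_le_mul_right (Nat.le_of_mul_le_mul_left ?_ hpos2) hpos1
    calc _ = (Nat.card ↥(stab A X ⊓ stab A Y) * Nat.card (fixed (stab A X ⊓ stab A Y))) *
          (Nat.card ↥(stab A X ⊔ stab A Y) * Nat.card (fixed (stab A X ⊔ stab A Y))) := by ring
      _ ≤ m * m := Nat.mul_le_mul (le_of_eq heq) h4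
      _ = (Nat.card (stab A X) * Nat.card (stab A Y)) *
          (Nat.card (fixed (stab A X)) * Nat.card (fixed (stab A Y))) := by
        calc m * m = (Nat.card (stab A X) * Nat.card (fixed (stab A X))) *
              (Nat.card (stab A Y) * Nat.card (fixed (stab A Y))) := by rw [hX.1, hY.1]
          _ = _ := by ring
      _ = _ := by rw [← h1, ← k1, ← k2]; ring
  -- all vectors
  have hP : P {w | ∃ a ∈ A, ∃ v, w = (a : Module.End ℤ V) v - v} := by
    haveI := Fintype.ofFinite V
    suffices ∀ s : Finset V, s.Nonempty → P {w | ∃ a ∈ A, ∃ v ∈ s, w = (a : Module.End ℤ V) v - v} by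
      convert this Finset.univ Finset.univ_nonempty using 1
      simp
    intro s hs
    induction hs using Finset.Nonempty.cons_induction with
    | singleton v =>
      convert single v using 1
      simp
    | cons v s hv hs ih =>
      convert union _ _ (single v) ih using 1
      ext w
      simp only [Finset.mem_cons, Set.mem_ofPred_eq, Set.mem_union]
      constructor
      · rintro ⟨a, ha, x, rfl | hx, rfl⟩
        · exact Or.inl ⟨a, ha, rfl⟩
        · exact Or.inr ⟨a, ha, x, hx, rfl⟩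
      · rintro (⟨a, ha, rfl⟩ | ⟨a, ha, x, hx, rfl⟩)
        · exact ⟨a, ha, v, Or.inl rfl, rfl⟩
        · exact ⟨a, ha, x, Or.inr hx, rfl⟩
  have hstab : stab A (comms A : Set V) =
      stab A {w | ∃ a ∈ A, ∃ v, w = (a : Module.End ℤ V) v - v} := by
    refine le_antisymm (fun g hg => ⟨hg.1, fun v hv => hg.2 v (AddSubgroup.subset_closure hv)⟩)
      fun g hg => ⟨hg.1, fun v hv => ?_⟩
    refine AddSubgroup.closure_induction (p := fun x _ => (g : Module.End ℤ V) x = x)
      (fun x hx => hg.2 x hx) (map_zero _) (fun x y _ _ hx hy => by rw [map_add, hx, hy])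
      (fun x _ hx => by rw [map_neg, hx]) hv
  refine ⟨fun C hC => ?_, fun hbot => hne ?_⟩
  · rw [hstab, hP.1]
    exact hbest C (hC.trans (stab_le _ _))
  · rw [hstab] at hbot
    have h1 := hP.2
    rw [hbot, fixed_bot] at h1
    exact eq_bot_of_fixed_sup_comms hp (fun a => ⟨1, Subtype.ext (by
      rw [pow_one]; exact hA.2 a a.2)⟩) h1.symm

end Timmesfeld

/-! ### Quasisimple subgroups of operators -/

section Quasisimple

variable [Finite V] {K : Subgroup (Module.End ℤ V)ˣ}

theorem not_commute_self (hK : Cfsg.IsQuasisimple K) : ∃ x ∈ K, ∃ y ∈ K, ¬ Commute x y := by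
  by_contra hc
  push Not at hc
  exact Components.IsQuasisimple.not_isMulCommutative hK
    ⟨⟨fun a b => Subtype.ext (hc a a.2 b b.2).eq⟩⟩

/-- A normal subgroup of a quasisimple `K` with a noncentral element is `K`. -/
theorem qs_eq_top (hK : Cfsg.IsQuasisimple K) (N : Subgroup K) [N.Normal] {x : K} (hx : x ∈ N)
    (hnc : x ∉ Subgroup.center K) : N = ⊤ :=
  (Components.IsQuasisimple.normal_eq_top_or_le_center hK N).resolve_right fun h => hnc (h hx)

/-- A normal subgroup with a noncentral element central modulo it is everything. -/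
theorem qs_eq_top_of_central_mod (hK : Cfsg.IsQuasisimple K) (N : Subgroup K) [N.Normal] {x : K}
    (hnc : x ∉ Subgroup.center K) (hx : ∀ y : K, ⁅x, y⁆ ∈ N) : N = ⊤ := by
  set π := QuotientGroup.mk' N
  have h1 : (Subgroup.center (↥K ⧸ N)).comap π = ⊤ := by
    refine qs_eq_top hK _ (x := x) (Subgroup.mem_center_iff.mpr fun q => ?_) hnc
    obtain ⟨y, rfl⟩ := QuotientGroup.mk'_surjective N q
    have h2 : π ⁅x, y⁆ = 1 := (QuotientGroup.eq_one_iff _).mpr (hx y)
    rw [map_commutatorElement, commutatorElement_eq_one_iff_mul_comm] at h2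
    exact h2.symm
  haveI := hK.1
  rw [eq_top_iff, ← Group.IsPerfect.commutator_eq_top (G := K), commutator_def, Subgroup.commutator_le]
  intro a _ b _
  rw [← QuotientGroup.eq_one_iff]
  show π ⁅a, b⁆ = 1
  rw [map_commutatorElement, commutatorElement_eq_one_iff_mul_comm]
  have ha : a ∈ (Subgroup.center (↥K ⧸ N)).comap π := h1 ▸ Subgroup.mem_top a
  exact (Subgroup.mem_center_iff.mp ha (π b)).symm

/-- A quasisimple group has a noncentral `p'`-element. -/
theorem qs_exists_coprime_not_central [hp : Fact p.Prime] (hK : Cfsg.IsQuasisimple K) :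
    ∃ x : K, (orderOf x).Coprime p ∧ x ∉ Subgroup.center K := by
  by_contra hc
  push Not at hc
  have hQ : IsPGroup p (↥K ⧸ Subgroup.center K) := by
    intro q
    obtain ⟨y, rfl⟩ := QuotientGroup.mk_surjective q
    refine ⟨(orderOf y).factorization p, ?_⟩
    rw [← QuotientGroup.mk_pow, QuotientGroup.eq_one_iff]
    refine hc _ ?_
    rw [orderOf_pow, Nat.gcd_eq_right (Nat.ordProj_dvd _ _)]
    exact (Nat.coprime_ordCompl hp.out (orderOf_pos y).ne').symm
  haveI := hQ.isNilpotent
  haveI : Group.IsSolvable (↥K ⧸ Subgroup.center K) := inferInstance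
  haveI : Group.IsSolvable (Subgroup.center K) := Group.isSolvable_of_comm fun a b => Subtype.ext (Subgroup.mem_center_iff.mp b.2 a)
  exact Components.IsQuasisimple.not_isSolvable hK
    (Group.isSolvable_of_ker_le_range (Subgroup.center K).subtype
      (QuotientGroup.mk' (Subgroup.center K))
      (by rw [QuotientGroup.ker_mk', Subgroup.range_subtype]))

/-- The elements `k ∈ K` with `k T = T`, for `T` commuting with `K`. -/
def killing (T : Module.End ℤ V) (K : Subgroup (Module.End ℤ V)ˣ) : Subgroup K where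
  carrier := {k | ((k : (Module.End ℤ V)ˣ) : Module.End ℤ V) * T = T}
  one_mem' := one_mul T
  mul_mem' := fun {a b} ha hb => by
    show ((a : (Module.End ℤ V)ˣ) : Module.End ℤ V) * (b : (Module.End ℤ V)ˣ) * T = T
    rw [mul_assoc, show ((b : (Module.End ℤ V)ˣ) : Module.End ℤ V) * T = T from hb]
    exact ha
  inv_mem' := fun {a} ha => by
    show (((a : (Module.End ℤ V)ˣ)⁻¹ : (Module.End ℤ V)ˣ) : Module.End ℤ V) * T = T
    conv_lhs => rw [← show ((a : (Module.End ℤ V)ˣ) : Module.End ℤ V) * T = T from ha]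
    rw [← mul_assoc, ← Units.val_mul, inv_mul_cancel, Units.val_one, one_mul]

/-- If `T` commutes with `K` and some noncentral `x` is central on the image of `T`, then `K` is
trivial on it. -/
theorem qs_commute_of_kill (hK : Cfsg.IsQuasisimple K) {T : Module.End ℤ V}
    (hT : ∀ k ∈ K, Commute ((k : Module.End ℤ V)) T) {x : (Module.End ℤ V)ˣ} (hx : x ∈ K)
    (hnc : ∃ y ∈ K, ¬ Commute x y)
    (h : ∀ y ∈ K, ((x : Module.End ℤ V) * y) * T = ((y : Module.End ℤ V) * x) * T) :
    ∀ k ∈ K, (k : Module.End ℤ V) * T = T := by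
  haveI : (killing T K).Normal := ⟨fun n hn g => by
    show (((g : (Module.End ℤ V)ˣ) * n * (g : (Module.End ℤ V)ˣ)⁻¹ : (Module.End ℤ V)ˣ) :
      Module.End ℤ V) * T = T
    rw [Units.val_mul, Units.val_mul, mul_assoc, (hT _ (inv_mem g.2)).eq, ← mul_assoc,
      mul_assoc (((g : (Module.End ℤ V)ˣ) : Module.End ℤ V)),
      show ((n : (Module.End ℤ V)ˣ) : Module.End ℤ V) * T = T from hn, (hT _ g.2).eq, mul_assoc,
      ← Units.val_mul, mul_inv_cancel, Units.val_one, mul_one]⟩
  intro k hk
  suffices killing T K = ⊤ by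
    have hmem : (⟨k, hk⟩ : K) ∈ killing T K := by rw [this]; trivial
    exact hmem
  obtain ⟨y, hy, hxy⟩ := hnc
  refine qs_eq_top_of_central_mod hK _ (x := ⟨x, hx⟩) (fun hc => hxy ?_) fun z => ?_
  · exact congrArg Subtype.val (Subgroup.mem_center_iff.mp hc ⟨y, hy⟩).symm
  · show ((x * (z : (Module.End ℤ V)ˣ) * x⁻¹ * (z : (Module.End ℤ V)ˣ)⁻¹ : (Module.End ℤ V)ˣ) :
      Module.End ℤ V) * T = T
    rw [mul_assoc (x * (z : (Module.End ℤ V)ˣ)), ← mul_inv_rev, Units.val_mul, mul_assoc,
      (hT _ (inv_mem (mul_mem z.2 hx))).eq, ← mul_assoc, Units.val_mul, h _ z.2, mul_assoc,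
      ← (hT _ (inv_mem (mul_mem z.2 hx))).eq, ← mul_assoc, ← Units.val_mul, ← Units.val_mul,
      mul_inv_cancel, Units.val_one, one_mul]

end Quasisimple

end Cfsg.Agent.PGV
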