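import Cfsg.Agent.Lib.PGV.Basic
import Mathlib.Tactic.NoncommRing
import Mathlib.Tactic.Group
import Mathlib.Algebra.Ring.Commute

/-!
# Quasisimple subgroups moved by commuting operators

`K` quasisimple, `A` a group of operators every element of which either normalises `K` or moves it to a
conjugate commuting with it (`Sep A K`).

* `false_of_odd_quadratic`: a quadratic element moving `K` forces `p = 2`
* `pairHom_eq`, `prodHom`, `kills_of_normalizing`, `kills_of_moving`: the diagonal centralises `[V, a]`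
* `false_of_three`: three distinct conjugates with these relations are impossible
* `false_of_odd`, `false_of_four`
-/

set_option autoImplicit false
set_option linter.style.haveILetI false
set_option linter.unusedSectionVars false

namespace Cfsg.Agent.PGV

universe u

open scoped commutatorElement

variable {V : Type u} [AddCommGroup V] {p : ℕ}

local notation "Γ" => (Module.End ℤ V)ˣ
local notation "𝔼" => Module.End ℤ V

/-- Every element of `A` normalises `K` or moves it to a commuting conjugate. -/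
def Sep (A K : Subgroup (Module.End ℤ V)ˣ) : Prop :=
  ∀ a ∈ A, a ∉ Subgroup.normalizer (K : Set (Module.End ℤ V)ˣ) →
    ∀ x ∈ K, ∀ y ∈ K, Commute (a * x * a⁻¹) y

theorem Sep.mono {A B K : Subgroup Γ} (h : Sep A K) (hBA : B ≤ A) : Sep B K :=
  fun b hb => h b (hBA hb)

/-- Conjugates of `K` by elements differing by a mover commute. -/
theorem Sep.commute {A K : Subgroup Γ} (h : Sep A K) {a a' : Γ} (ha : a ∈ A) (ha' : a' ∈ A)
    (hne : a⁻¹ * a' ∉ Subgroup.normalizer (K : Set Γ)) {x y : Γ} (hx : x ∈ K) (hy : y ∈ K) :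
    Commute (a * x * a⁻¹) (a' * y * a'⁻¹) := by
  have h1 := h (a⁻¹ * a') (mul_mem (inv_mem ha) ha') hne y hy x hx
  have h2 := h1.map (MulAut.conj a).toMonoidHom
  simp only [MulEquiv.coe_toMonoidHom, MulAut.conj_apply] at h2
  have e : a * (a⁻¹ * a' * y * (a⁻¹ * a')⁻¹) * a⁻¹ = a' * y * a'⁻¹ := by group
  rw [e] at h2
  exact h2.symm

theorem pow_not_mem {K : Subgroup Γ} [hp : Fact p.Prime] {a : Γ} (hap : a ^ p = 1)
    (ha : a ∉ Subgroup.normalizer (K : Set Γ)) {i : ℕ} (hi : ¬ p ∣ i) :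
    a ^ i ∉ Subgroup.normalizer (K : Set Γ) := by
  intro h
  apply ha
  have hcop : (i.gcd (orderOf a)) = 1 := by
    have : Nat.Coprime i p := (hp.out.coprime_iff_not_dvd.mpr hi).symm
    exact this.coprime_dvd_right (orderOf_dvd_of_pow_eq_one hap)
  have hmem : a ∈ Subgroup.zpowers (a ^ i) := mem_zpowers_pow_iff.mpr hcop
  exact Subgroup.zpowers_le.mpr h hmem

theorem pow_mul_not_mem {K : Subgroup Γ} [hp : Fact p.Prime] {a : Γ} (hap : a ^ p = 1)
    (ha : a ∉ Subgroup.normalizer (K : Set Γ)) {i j : ℕ} (hi : i < p) (hj : j < p) (hij : i ≠ j) :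
    (a ^ i)⁻¹ * a ^ j ∉ Subgroup.normalizer (K : Set Γ) := by
  intro h
  rcases lt_or_gt_of_ne hij with hlt | hlt
  · refine pow_not_mem hap ha (i := j - i) (fun hd => ?_) ?_
    · have := Nat.le_of_dvd (by omega) hd
      omega
    · rwa [show j = i + (j - i) by omega, pow_add, inv_mul_cancel_left] at h
  · refine pow_not_mem hap ha (i := i - j) (fun hd => ?_) ?_
    · have := Nat.le_of_dvd (by omega) hd
      omega
    · have := inv_mem h
      rwa [mul_inv_rev, inv_inv, show i = j + (i - j) by omega, pow_add, inv_mul_cancel_left] at this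

/-- A mover cannot fix or invert a noncentral element of `K`. -/
theorem mover_conj_ne {A K : Subgroup Γ} (hS : Sep A K) {a : Γ} (ha : a ∈ A)
    (hn : a ∉ Subgroup.normalizer (K : Set Γ)) {x : Γ} (hx : x ∈ K)
    (hnc : ∃ y ∈ K, ¬ Commute x y) : a * x * a⁻¹ ≠ x ∧ a * x * a⁻¹ ≠ x⁻¹ := by
  obtain ⟨y, hy, hxy⟩ := hnc
  refine ⟨fun h => hxy (h ▸ hS a ha hn x hx y hy), fun h => hxy ?_⟩
  have := hS a ha hn x hx y hy
  rw [h] at this
  simpa using this.inv_left

theorem orderOf_conj_eq (a x : Γ) : orderOf (a * x * a⁻¹) = orderOf x :=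
  MulEquiv.orderOf_eq (MulAut.conj a) x

/-- A quadratic element of odd prime order cannot move `x` to commuting conjugates. -/
theorem eq_conj_of_quadratic [hp : Fact p.Prime] (hV : ∀ v : V, p • v = 0) (hp2 : p ≠ 2) {a x : Γ}
    (hx : (orderOf x).Coprime p) (hq : ((a : 𝔼) - 1) * ((a : 𝔼) - 1) = 0)
    (h1 : Commute x (a * x * a⁻¹)) (h2 : Commute x (a⁻¹ * x * a)) :
    a * x * a⁻¹ = x := by
  have hpE := natCast_end_eq_zero hV
  set N := (a : 𝔼) - 1 with hN
  set k := (x : 𝔼) with hk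
  have ha : (a : 𝔼) = 1 + N := by rw [hN]; abel
  have hai : ((a⁻¹ : Γ) : 𝔼) = 1 - N := by
    refine Units.inv_eq_of_mul_eq_one_right ?_
    rw [ha]
    calc (1 + N) * (1 - N) = 1 - N * N := by noncomm_ring
      _ = 1 := by rw [hq, sub_zero]
  set d := N * k - k * N with hd
  set q := N * k * N with hq'
  have c1 : ((a * x * a⁻¹ : Γ) : 𝔼) = k + d - q := by
    rw [Units.val_mul, Units.val_mul, ha, hai, hd, hq']; noncomm_ring
  have c2 : ((a⁻¹ * x * a : Γ) : 𝔼) = k - d - q := by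
    rw [Units.val_mul, Units.val_mul, ha, hai, hd, hq']; noncomm_ring
  have e1 : k * (k + d - q) = (k + d - q) * k := by
    rw [← c1, hk, ← Units.val_mul, ← Units.val_mul, h1.eq]
  have e2 : k * (k - d - q) = (k - d - q) * k := by
    rw [← c2, hk, ← Units.val_mul, ← Units.val_mul, h2.eq]
  -- halving
  obtain ⟨m, hm⟩ : ∃ m : ℕ, p = 2 * m + 1 := hp.out.odd_of_ne_two hp2
  have half : ∀ Z : 𝔼, Z + Z = 0 → Z = 0 := by
    intro Z hZ
    have h0 : (p : 𝔼) * Z = 0 := by rw [hpE, zero_mul]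
    rw [hm, Nat.cast_add, Nat.cast_mul, Nat.cast_one, add_mul, one_mul, Nat.cast_comm 2,
      mul_assoc, Nat.cast_ofNat, two_mul, hZ, mul_zero, zero_add] at h0
    exact h0
  have hd0 : k * d - d * k = 0 := by
    refine half _ ?_
    calc _ = (k * (k + d - q) - (k + d - q) * k) - (k * (k - d - q) - (k - d - q) * k) := by
          noncomm_ring
      _ = 0 := by rw [e1, e2, sub_self, sub_self, sub_zero]
  have hq0 : k * q - q * k = 0 := by
    refine half _ ?_
    calc _ = -((k * (k + d - q) - (k + d - q) * k) + (k * (k - d - q) - (k - d - q) * k)) := by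
          noncomm_ring
      _ = 0 := by rw [e1, e2, sub_self, sub_self, add_zero, neg_zero]
  -- `d² = 0` and `dq + qd = 0`
  have hdd : d * d = 0 := by
    have h3 : N * (k * d - d * k) * N = 0 := by rw [hd0, mul_zero, zero_mul]
    have h4 : N * (k * d - d * k) = 0 := by rw [hd0, mul_zero]
    have hkd : N * N = 0 := hq
    calc d * d = N * k * (N * k) - N * k * k * N - k * (N * N) * k + k * N * (k * N) := by
          rw [hd]; noncomm_ring
      _ = q * k + k * q - N * k * k * N := by rw [hkd, hq']; noncomm_ring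
      _ = (q * k - N * k * k * N + q * k) + (k * q - q * k) := by noncomm_ring
      _ = N * (k * d - d * k) + (N * N) * (k * k) + (k * q - q * k) := by
          rw [hd, hq']; noncomm_ring
      _ = 0 := by rw [h4, hkd, zero_mul, hq0, add_zero, add_zero]
  have hdq : d * q + q * d = 0 := by
    calc d * q + q * d = N * k * (N * N) * k + (N * k * N * k * N - N * k * N * k * N)
          - k * (N * N) * k * N := by rw [hd, hq']; noncomm_ring
      _ = 0 := by rw [show N * N = 0 from hq, sub_self]; simp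
  have hqq : q * q = 0 := by
    calc q * q = N * k * (N * N) * k * N := by rw [hq']; noncomm_ring
      _ = 0 := by rw [show N * N = 0 from hq]; simp
  -- so `x⁻¹ (a x a⁻¹) = 1`
  set g := x⁻¹ * (a * x * a⁻¹) with hg
  have hgo : (orderOf g).Coprime p := by
    refine Nat.Coprime.coprime_dvd_left (h1.inv_left.orderOf_mul_dvd_lcm) ?_
    rw [orderOf_inv, orderOf_conj_eq, Nat.lcm_self]
    exact hx
  have hg1 : (g : 𝔼) - 1 = ((x⁻¹ : Γ) : 𝔼) * (d - q) := by
    rw [hg, Units.val_mul, c1, show k + d - q = k + (d - q) by abel, mul_add, hk, ← Units.val_mul,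
      inv_mul_cancel, Units.val_one, add_sub_cancel_left]
  have hcomm : Commute (d - q) k := by
    show (d - q) * k = k * (d - q)
    rw [sub_mul, mul_sub, sub_eq_zero.mp hd0, sub_eq_zero.mp hq0]
  have hcomm' : Commute (d - q) ((x⁻¹ : Γ) : 𝔼) := Commute.units_inv_right hcomm
  have hg2 : ((g : 𝔼) - 1) * ((g : 𝔼) - 1) = 0 := by
    rw [hg1, hcomm'.mul_mul_mul_comm,
      show (d - q) * (d - q) = d * d + q * q - (d * q + q * d) by noncomm_ring, hdd, hqq, hdq]
    simp
  have : g = 1 := Units.ext (eq_of_sq_sub hpE (by rw [← Units.val_pow_eq_pow_val,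
    pow_orderOf_eq_one, Units.val_one]) hgo hg2)
  rw [hg] at this
  exact (inv_mul_eq_one.mp this).symm

/-- Three pairwise commuting `p'`-elements with these relations: the first two are equal. -/
theorem eq_of_three [Fact p.Prime] (hV : ∀ v : V, p • v = 0) {k₀ k₁ k₂ : Γ}
    (h0 : (orderOf k₀).Coprime p) (h1 : (orderOf k₁).Coprime p) (c01 : Commute k₀ k₁)
    (r1 : (k₂ : 𝔼) * ((k₀ : 𝔼) - k₁) = (k₀ : 𝔼) - k₁)
    (r2 : (k₁ : 𝔼) * ((k₀ : 𝔼) - k₂) = (k₀ : 𝔼) - k₂)
    (r3 : ((k₀ : 𝔼) * k₁) * ((k₀ : 𝔼) - k₁) = (k₀ : 𝔼) - k₁) : k₀ = k₁ := by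
  have hpE := natCast_end_eq_zero hV
  set u := (k₀ : 𝔼) with hu
  set v := (k₁ : 𝔼) with hv
  set w := (k₂ : 𝔼)
  have huv : u * v = v * u := congrArg Units.val c01.eq
  set X := u - v with hX
  have hQ : (v - 1) * ((u - 1) * X) = 0 := by
    calc (v - 1) * ((u - 1) * X) = ((v * (u - w)) - (u - w)) * X + (v - 1) * (w * X - X) := by
          noncomm_ring
      _ = 0 := by rw [r2, r1, sub_self, sub_self, zero_mul, mul_zero, add_zero]
  have hQ' : (u - 1) * ((v - 1) * X) = 0 := by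
    rw [← hQ, ← mul_assoc, ← mul_assoc]
    congr 1
    calc (u - 1) * (v - 1) = u * v - u - v + 1 := by noncomm_ring
      _ = v * u - u - v + 1 := by rw [huv]
      _ = (v - 1) * (u - 1) := by noncomm_ring
  have hsum : (u - 1) * X + (v - 1) * X = 0 := by
    calc _ = (u * v * X - X) - (u - 1) * ((v - 1) * X) := by noncomm_ring
      _ = 0 := by rw [r3, hQ', sub_self, sub_zero]
  have hu2 : (u - 1) * ((u - 1) * X) = 0 := by
    have := congrArg ((u - 1) * ·) hsum
    simpa [mul_add, hQ'] using this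
  have huX : u * X = X := eq_of_sq_sub_mul hpE
    (by rw [hu, ← Units.val_pow_eq_pow_val, pow_orderOf_eq_one, Units.val_one]) h0 hu2
  have hvX : v * X = X := by
    have := hsum
    rwa [sub_mul, one_mul, huX, sub_self, zero_add, sub_mul, one_mul, sub_eq_zero] at this
  have hXX : X * X = 0 := by
    conv_lhs => arg 1; rw [hX]
    rw [sub_mul, huX, hvX, sub_self]
  set g := k₀⁻¹ * k₁ with hg
  have hgo : (orderOf g).Coprime p := by
    refine Nat.Coprime.coprime_dvd_left (c01.inv_left.orderOf_mul_dvd_lcm) ?_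
    rw [orderOf_inv]
    exact Nat.Coprime.coprime_dvd_left (Nat.lcm_dvd_mul _ _) (Nat.Coprime.mul_left h0 h1)
  have hg1 : (g : 𝔼) - 1 = -(((k₀⁻¹ : Γ) : 𝔼) * X) := by
    rw [hg, Units.val_mul, hX, mul_sub, hu, ← Units.val_mul k₀⁻¹ k₀, inv_mul_cancel, Units.val_one,
      neg_sub]
  have hc : Commute X ((k₀⁻¹ : Γ) : 𝔼) := by
    refine Commute.units_inv_right (?_ : X * u = u * X)
    rw [hX, sub_mul, mul_sub, huv]
  have hg2 : ((g : 𝔼) - 1) * ((g : 𝔼) - 1) = 0 := by
    rw [hg1, neg_mul_neg, hc.mul_mul_mul_comm, hXX, mul_zero]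
  have : g = 1 := Units.ext (eq_of_sq_sub hpE (by rw [← Units.val_pow_eq_pow_val,
    pow_orderOf_eq_one, Units.val_one]) hgo hg2)
  exact inv_mul_eq_one.mp this

/-- If `z` commutes with `k` and centralises `[V, a]`, it is trivial on `(k - a k a⁻¹) V`. -/
theorem rel_of_kills {z a k : Γ} (hzk : Commute z k) (hza : Commute z a)
    (h : (z : 𝔼) * ((a : 𝔼) - 1) = (a : 𝔼) - 1) :
    (z : 𝔼) * ((k : 𝔼) - ((a * k * a⁻¹ : Γ) : 𝔼)) = (k : 𝔼) - ((a * k * a⁻¹ : Γ) : 𝔼) := by
  have e0 : ((z : 𝔼) - 1) * a = (z : 𝔼) - 1 := by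
    rw [← sub_eq_zero, show ((z : 𝔼) - 1) * a - ((z : 𝔼) - 1) =
      (z : 𝔼) * ((a : 𝔼) - 1) - ((a : 𝔼) - 1) by noncomm_ring, h, sub_self]
  have e1 : ((z : 𝔼) - 1) * (a⁻¹ : Γ) = (z : 𝔼) - 1 := by
    conv_lhs => rw [← e0, mul_assoc, ← Units.val_mul, mul_inv_cancel, Units.val_one, mul_one]
  have hk : ((z : 𝔼) - 1) * k = (k : 𝔼) * ((z : 𝔼) - 1) := by
    rw [sub_mul, mul_sub, one_mul, mul_one, ← Units.val_mul, hzk.eq, Units.val_mul]
  have e2 : ((z : 𝔼) - 1) * ((a * k * a⁻¹ : Γ) : 𝔼) = ((z : 𝔼) - 1) * k := by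
    rw [Units.val_mul, Units.val_mul, ← mul_assoc, ← mul_assoc, e0, hk, mul_assoc, e1]
  rw [← sub_eq_zero, show ∀ T : 𝔼, (z : 𝔼) * T - T = ((z : 𝔼) - 1) * T from fun T => by noncomm_ring,
    mul_sub, e2, sub_self]

/-- If `g (c x c⁻¹)` is trivial on the image of `T`, both `g` and `T` commuting with `c K c⁻¹`, then
so is `c K c⁻¹`. -/
theorem kill_conj [Finite V] {K : Subgroup Γ} (hK : Cfsg.IsQuasisimple K) {c g x : Γ} {T : 𝔼}
    (hx : x ∈ K) (hnc : ∃ y ∈ K, ¬ Commute x y)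
    (hg : ∀ y ∈ K, Commute (c * y * c⁻¹) g)
    (hT : ∀ y ∈ K, Commute ((c * y * c⁻¹ : Γ) : 𝔼) T)
    (h : ((g * (c * x * c⁻¹) : Γ) : 𝔼) * T = T) :
    ∀ y ∈ K, ((c * y * c⁻¹ : Γ) : 𝔼) * T = T := by
  set T' := ((c⁻¹ : Γ) : 𝔼) * T * c with hT'
  have tr : ∀ y : Γ, ((c * y * c⁻¹ : Γ) : 𝔼) * T = (c : 𝔼) * ((y : 𝔼) * T') * (c⁻¹ : Γ) := by
    intro y
    rw [hT', Units.val_mul, Units.val_mul]
    symm
    calc (c : 𝔼) * ((y : 𝔼) * (((c⁻¹ : Γ) : 𝔼) * T * c)) * (c⁻¹ : Γ)
        = (c : 𝔼) * y * (c⁻¹ : Γ) * T * ((c : 𝔼) * (c⁻¹ : Γ)) := by simp only [mul_assoc]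
      _ = _ := by rw [Units.mul_inv, mul_one]
  have back : ∀ S : 𝔼, ((c⁻¹ : Γ) : 𝔼) * ((c : 𝔼) * S * (c⁻¹ : Γ)) * c = S := by
    intro S
    rw [← mul_assoc, ← mul_assoc, ← Units.val_mul, inv_mul_cancel, Units.val_one, one_mul,
      mul_assoc, ← Units.val_mul, inv_mul_cancel, Units.val_one, mul_one]
  have hcT : ∀ y ∈ K, Commute (y : 𝔼) T' := by
    intro y hy
    have h1 := (hT y hy).eq
    rw [Units.val_mul, Units.val_mul] at h1
    show (y : 𝔼) * T' = T' * y
    rw [← back ((y : 𝔼) * T'), ← tr, Units.val_mul, Units.val_mul, h1, hT']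
    calc ((c⁻¹ : Γ) : 𝔼) * (T * ((c : 𝔼) * y * (c⁻¹ : Γ))) * c
        = ((c⁻¹ : Γ) : 𝔼) * T * c * y * (((c⁻¹ : Γ) : 𝔼) * c) := by simp only [mul_assoc]
      _ = _ := by rw [Units.inv_mul, mul_one]
  have hx' : ∀ y ∈ K, ((x : 𝔼) * y) * T' = ((y : 𝔼) * x) * T' := by
    have hxT : (x : 𝔼) * T' = ((c⁻¹ * g⁻¹ * c : Γ) : 𝔼) * T' := by
      have h1 : ((c * x * c⁻¹ : Γ) : 𝔼) * T = ((g⁻¹ : Γ) : 𝔼) * T := by
        conv_rhs => rw [← h, ← mul_assoc, ← Units.val_mul, inv_mul_cancel_left]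
      rw [tr] at h1
      rw [← back ((x : 𝔼) * T'), h1, hT', Units.val_mul, Units.val_mul]
      simp only [mul_assoc, ← Units.val_mul, mul_inv_cancel_left]
      simp only [← mul_assoc, ← Units.val_mul]
      rw [show c⁻¹ * g⁻¹ * c * c⁻¹ = c⁻¹ * g⁻¹ by group]
    intro y hy
    have hgy : Commute y (c⁻¹ * g⁻¹ * c) := by
      have := ((hg y hy).inv_right).map (MulAut.conj c⁻¹).toMonoidHom
      simp only [MulEquiv.coe_toMonoidHom, MulAut.conj_apply] at this
      rwa [show c⁻¹ * (c * y * c⁻¹) * c⁻¹⁻¹ = y by group, inv_inv] at this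
    rw [mul_assoc, (hcT y hy).eq, ← mul_assoc, hxT, mul_assoc, ← (hcT y hy).eq, ← mul_assoc,
      ← Units.val_mul, ← hgy.eq, Units.val_mul, mul_assoc, ← hxT, mul_assoc]
  have hall := qs_commute_of_kill hK hcT hx hnc hx'
  intro y hy
  rw [tr, hall y hy, hT', ← mul_assoc, ← mul_assoc, ← Units.val_mul, mul_inv_cancel, Units.val_one,
    one_mul, mul_assoc, ← Units.val_mul, mul_inv_cancel, Units.val_one, mul_one]

theorem commutatorElement_central_mul {M : Type*} [Group M] {zu zv u v : M}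
    (hu : ∀ g, g * zu = zu * g) (hv : ∀ g, g * zv = zv * g) :
    ⁅zu * u, zv * v⁆ = ⁅u, v⁆ := by
  have e1 : zu * u * (zv * v) = zu * zv * (u * v) := by
    rw [mul_assoc, ← mul_assoc u, hv u, mul_assoc, ← mul_assoc zu]
  rw [commutatorElement_def, commutatorElement_def, mul_assoc _ (zu * u)⁻¹, ← mul_inv_rev, e1,
    show zv * v * (zu * u) = zu * zv * (v * u) by
      rw [mul_assoc, ← mul_assoc v, hu v, mul_assoc, ← mul_assoc zv, hu zv],
    mul_inv_rev, ← mul_assoc, mul_assoc (zu * zv)]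
  generalize hw : u * v * (v * u)⁻¹ = w
  rw [mul_assoc zu zv w, ← hv w, ← mul_assoc zu, ← hu w, ← hw]
  group

/-- The operators fixing `[V, a]` pointwise. -/
def killsComm (a : Γ) : Subgroup Γ where
  carrier := {g | (g : 𝔼) * ((a : 𝔼) - 1) = (a : 𝔼) - 1}
  one_mem' := one_mul _
  mul_mem' := fun {g h} hg hh => by
    show ((g * h : Γ) : 𝔼) * ((a : 𝔼) - 1) = (a : 𝔼) - 1
    rw [Units.val_mul, mul_assoc, show (h : 𝔼) * ((a : 𝔼) - 1) = (a : 𝔼) - 1 from hh]
    exact hg
  inv_mem' := fun {g} hg => by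
    show ((g⁻¹ : Γ) : 𝔼) * ((a : 𝔼) - 1) = (a : 𝔼) - 1
    conv_lhs => rw [← show (g : 𝔼) * ((a : 𝔼) - 1) = (a : 𝔼) - 1 from hg]
    rw [← mul_assoc, ← Units.val_mul, inv_mul_cancel, Units.val_one, one_mul]

theorem killsComm_conj_mem {a g w : Γ} (hw : Commute w a) (hg : g ∈ killsComm a) :
    w * g * w⁻¹ ∈ killsComm a := by
  show ((w * g * w⁻¹ : Γ) : 𝔼) * ((a : 𝔼) - 1) = (a : 𝔼) - 1
  have hc : Commute ((w⁻¹ : Γ) : 𝔼) ((a : 𝔼) - 1) :=
    (Commute.units_inv_left (hw.map (Units.coeHom 𝔼))).sub_right (Commute.one_right _)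
  rw [Units.val_mul, Units.val_mul, mul_assoc, hc.eq, ← mul_assoc, mul_assoc (w : 𝔼),
    show (g : 𝔼) * ((a : 𝔼) - 1) = (a : 𝔼) - 1 from hg, mul_assoc, ← hc.eq, ← mul_assoc,
    ← Units.val_mul, mul_inv_cancel, Units.val_one, one_mul]

variable [Finite V] {K : Subgroup (Module.End ℤ V)ˣ}

theorem comap_killsComm_normal (π : ↥K →* Γ) {a : Γ} (hπa : ∀ y, Commute (π y) a) :
    ((killsComm a).comap π).Normal :=
  ⟨fun n hn g => by
    rw [Subgroup.mem_comap, map_mul, map_mul, map_inv]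
    exact killsComm_conj_mem (hπa g) hn⟩

/-- An operator normalising a quasisimple `K` and centralising it modulo the centre centralises it. -/
theorem commute_of_twist (hK : Cfsg.IsQuasisimple K) {b : Γ}
    (hbK : ∀ y ∈ K, b * y * b⁻¹ ∈ K)
    (hcen : ∀ x : K, x * (⟨b * x * b⁻¹, hbK x x.2⟩ : K)⁻¹ ∈ Subgroup.center K) :
    ∀ x ∈ K, Commute b x := by
  intro x hx
  let σ : K →* K :=
    { toFun := fun x => ⟨b * x * b⁻¹, hbK x x.2⟩
      map_one' := Subtype.ext (by simp)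
      map_mul' := fun x y => Subtype.ext (by simp [mul_assoc]) }
  have hσ : ∀ x : K, σ x = x := by
    have hle : ⁅(⊤ : Subgroup K), ⊤⁆ ≤ MonoidHom.eqLocus σ (MonoidHom.id K) := by
      rw [Subgroup.commutator_le]
      intro u _ v _
      show σ ⁅u, v⁆ = ⁅u, v⁆
      have hu : σ u = (u * (σ u)⁻¹)⁻¹ * u := by group
      have hv : σ v = (v * (σ v)⁻¹)⁻¹ * v := by group
      have cu := Subgroup.mem_center_iff.mp (inv_mem (hcen u))
      have cv := Subgroup.mem_center_iff.mp (inv_mem (hcen v))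
      rw [map_commutatorElement, hu, hv]
      exact commutatorElement_central_mul cu cv
    haveI := hK.1
    intro x
    exact hle (by rw [← commutator_def, Group.IsPerfect.commutator_eq_top (G := K)]; trivial)
  have := congrArg Subtype.val (hσ ⟨x, hx⟩)
  exact mul_inv_eq_iff_eq_mul.mp this

/-- The diagonal centralises `[V, a]`, as soon as `b` does, normalises `K` and does not centralise it. -/
theorem kills_of_normalizing (hK : Cfsg.IsQuasisimple K) (π : ↥K →* Γ) {a b : Γ}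
    (hπa : ∀ y, Commute (π y) a) (hba : Commute b a) (hb : b ∈ killsComm a)
    (hbK : ∀ y ∈ K, b * y * b⁻¹ ∈ K)
    (hπb : ∀ (y : K) (h : b * y * b⁻¹ ∈ K), π ⟨b * y * b⁻¹, h⟩ = b * π y * b⁻¹)
    (hne : ∃ x ∈ K, ¬ Commute b x) (y : K) : π y ∈ killsComm a := by
  haveI := comap_killsComm_normal π hπa
  suffices (killsComm a).comap π = ⊤ from (this ▸ Subgroup.mem_top y : y ∈ (killsComm a).comap π)
  by_contra hc
  have hcen : ∀ x : K, x * (⟨b * x * b⁻¹, hbK x x.2⟩ : K)⁻¹ ∈ Subgroup.center K := by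
    intro x
    refine (Components.IsQuasisimple.normal_eq_top_or_le_center hK _).resolve_left hc ?_
    rw [Subgroup.mem_comap, map_mul, map_inv, hπb]
    have h1 : π x * b * (π x)⁻¹ ∈ killsComm a := killsComm_conj_mem (hπa x) hb
    have h2 := mul_mem h1 (inv_mem hb)
    simpa [mul_assoc] using h2
  obtain ⟨x, hx, hbx⟩ := hne
  refine hbx ?_
  exact commute_of_twist hK hbK hcen x hx

/-- The diagonal centralises `[V, a]`, as soon as some `b` centralising `[V, a]` moves it to a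
commuting copy; and so does the copy. -/
theorem kills_of_moving (hK : Cfsg.IsQuasisimple K) (π : ↥K →* Γ) {a b : Γ}
    (hπa : ∀ y, Commute (π y) a) (hb : b ∈ killsComm a)
    (hdisj : ∀ y w : K, Commute (b * π y * b⁻¹) (π w)) (y : K) :
    π y ∈ killsComm a ∧ b * π y * b⁻¹ ∈ killsComm a := by
  haveI := comap_killsComm_normal π hπa
  have hall : (killsComm a).comap π = ⊤ := by
    haveI := hK.1
    rw [eq_top_iff, ← Group.IsPerfect.commutator_eq_top (G := K), commutator_def, Subgroup.commutator_le]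
    intro w _ z _
    rw [Subgroup.mem_comap, map_commutatorElement]
    have hc : b * π z * b⁻¹ * (π z)⁻¹ ∈ killsComm a := by
      have h1 : (π z) * b⁻¹ * (π z)⁻¹ ∈ killsComm a := killsComm_conj_mem (hπa z) (inv_mem hb)
      have h2 := mul_mem hb h1
      simpa [mul_assoc] using h2
    have h3 := mul_mem (killsComm_conj_mem (hπa w) (inv_mem hc)) hc
    have e : π w * (b * π z * b⁻¹ * (π z)⁻¹)⁻¹ * (π w)⁻¹ * (b * π z * b⁻¹ * (π z)⁻¹) =
        ⁅π w, π z⁆ := by
      have hcm := (hdisj z w).inv_left.eq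
      have hcm2 := (hdisj z z).eq
      rw [commutatorElement_def]
      calc _ = π w * π z * (((b * π z * b⁻¹)⁻¹) * (π w)⁻¹) * (b * π z * b⁻¹ * (π z)⁻¹) := by group
        _ = π w * π z * ((π w)⁻¹ * (b * π z * b⁻¹)⁻¹) * (b * π z * b⁻¹ * (π z)⁻¹) := by
          rw [((hdisj z w).inv_inv).eq]
        _ = _ := by group
    rwa [e] at h3
  have hy : π y ∈ killsComm a := (hall ▸ Subgroup.mem_top y : y ∈ (killsComm a).comap π)
  exact ⟨hy, mul_mem (mul_mem hb hy) (inv_mem hb)⟩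

/-- `y ↦ y · a y a⁻¹` for a mover `a`. -/
def pairHom {A : Subgroup Γ} (hS : Sep A K) {a : Γ} (ha : a ∈ A)
    (hn : a ∉ Subgroup.normalizer (K : Set Γ)) : ↥K →* Γ where
  toFun y := y * (a * y * a⁻¹)
  map_one' := by simp
  map_mul' y z := by
    have h := hS a ha hn y y.2 z z.2
    show (y : Γ) * z * (a * (y * z) * a⁻¹) = y * (a * y * a⁻¹) * (z * (a * z * a⁻¹))
    calc (y : Γ) * z * (a * (y * z) * a⁻¹) = y * (z * (a * y * a⁻¹)) * (a * z * a⁻¹) := by group
      _ = y * ((a * y * a⁻¹) * z) * (a * z * a⁻¹) := by rw [h.eq]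
      _ = _ := by group

theorem pairHom_commute {A : Subgroup Γ} (hS : Sep A K) {a : Γ} (ha : a ∈ A)
    (hn : a ∉ Subgroup.normalizer (K : Set Γ)) (h2 : a ^ 2 = 1) (y : K) :
    Commute (pairHom hS ha hn y) a := by
  have hai : a⁻¹ = a := inv_eq_of_mul_eq_one_right (by rw [← sq, h2])
  show (y : Γ) * (a * y * a⁻¹) * a = a * ((y : Γ) * (a * y * a⁻¹))
  refine (mul_inv_eq_iff_eq_mul.mp ?_).symm
  calc a * ((y : Γ) * (a * y * a⁻¹)) * a⁻¹ = (a * y * a⁻¹) * ((a * a) * y * (a * a)⁻¹) := by group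
    _ = (a * y * a⁻¹) * y := by rw [← sq, h2, inv_one, one_mul, mul_one]
    _ = _ := (hS a ha hn y y.2 y y.2).eq

theorem commute_pairHom {A : Subgroup Γ} (hS : Sep A K) {a : Γ} (ha : a ∈ A)
    (hn : a ∉ Subgroup.normalizer (K : Set Γ)) {w : Γ} {y : K}
    (h1 : Commute w y) (h2 : Commute w (a * y * a⁻¹)) : Commute w (pairHom hS ha hn y) :=
  h1.mul_right h2

/-- `f 0 ⋯ f (n-1)` with `f i = a ^ i y a ^ -i`. -/
def orbitProd (a : Γ) (y : Γ) : ℕ → Γ
  | 0 => 1
  | n + 1 => orbitProd a y n * (a ^ n * y * (a ^ n)⁻¹)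

theorem commute_orbitProd {a y w : Γ} {n : ℕ}
    (h : ∀ i < n, Commute w (a ^ i * y * (a ^ i)⁻¹)) : Commute w (orbitProd a y n) := by
  induction n with
  | zero => exact Commute.one_right w
  | succ n ih => exact (ih fun i hi => h i (by omega)).mul_right (h n (by omega))

theorem orbitProd_shift (a y : Γ) (n : ℕ) :
    y * (a * orbitProd a y n * a⁻¹) = orbitProd a y (n + 1) := by
  induction n with
  | zero => simp [orbitProd]
  | succ n ih =>
    rw [orbitProd]
    conv_rhs => rw [orbitProd, ← ih]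
    rw [pow_succ']
    group

theorem exists_orbitProd_eq_mul {a y : Γ} {n l : ℕ} (hl : l < n)
    (hc : ∀ i < n, Commute (a ^ l * y * (a ^ l)⁻¹) (a ^ i * y * (a ^ i)⁻¹)) :
    ∃ g, orbitProd a y n = g * (a ^ l * y * (a ^ l)⁻¹) ∧
      ∀ w : Γ, (∀ i < n, i ≠ l → Commute w (a ^ i * y * (a ^ i)⁻¹)) → Commute w g := by
  induction n with
  | zero => omega
  | succ n ih =>
    rcases Nat.lt_succ_iff_lt_or_eq.mp hl with hlt | rfl
    · obtain ⟨g, hg, hgc⟩ := ih hlt fun i hi => hc i (by omega)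
      refine ⟨g * (a ^ n * y * (a ^ n)⁻¹), ?_, fun w hw => ?_⟩
      · rw [orbitProd, hg, mul_assoc, (hc n (by omega)).eq, ← mul_assoc]
      · exact (hgc w fun i hi hne => hw i (by omega) hne).mul_right (hw n (by omega) (by omega))
    · exact ⟨orbitProd a y l, rfl, fun w hw =>
        commute_orbitProd fun i hi => hw i (by omega) (by omega)⟩

/-- The product over the orbit of a mover of order `p`. -/
def prodHom [Fact p.Prime] {A : Subgroup Γ} (hS : Sep A K) {a : Γ} (ha : a ∈ A) (hap : a ^ p = 1)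
    (hn : a ∉ Subgroup.normalizer (K : Set Γ)) : ↥K →* Γ where
  toFun y := orbitProd a y p
  map_one' := by
    have : ∀ n, orbitProd a (1 : Γ) n = 1 := fun n => by
      induction n with
      | zero => rfl
      | succ n ih => simp [orbitProd, ih]
    exact this p
  map_mul' y z := by
    have key : ∀ n ≤ p, orbitProd a ((y : Γ) * z) n = orbitProd a y n * orbitProd a z n := by
      intro n hn'
      induction n with
      | zero => simp [orbitProd]
      | succ n ih =>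
        have hc : Commute (a ^ n * y * (a ^ n)⁻¹) (orbitProd a z n) :=
          commute_orbitProd fun i hi => hS.commute (pow_mem ha n) (pow_mem ha i)
            (pow_mul_not_mem hap hn (by omega) (by omega) (by omega)) y.2 z.2
        rw [orbitProd, ih (by omega), orbitProd, orbitProd]
        calc orbitProd a (y : Γ) n * orbitProd a z n * (a ^ n * (y * z) * (a ^ n)⁻¹)
            = orbitProd a (y : Γ) n * (orbitProd a z n * (a ^ n * y * (a ^ n)⁻¹)) *
              (a ^ n * z * (a ^ n)⁻¹) := by group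
          _ = orbitProd a (y : Γ) n * ((a ^ n * y * (a ^ n)⁻¹) * orbitProd a z n) *
              (a ^ n * z * (a ^ n)⁻¹) := by rw [hc.eq]
          _ = _ := by group
    exact key p le_rfl

/-- The three-conjugate relations for a mover of odd order. -/
theorem odd_relations [Fact p.Prime] (hp2 : p ≠ 2) (hK : Cfsg.IsQuasisimple K) {A : Subgroup Γ}
    (hS : Sep A K) (hAc : IsMulCommutative A) {a b : Γ} (ha : a ∈ A) (hb : b ∈ A) (hap : a ^ p = 1)
    (hn : a ∉ Subgroup.normalizer (K : Set Γ)) (hbN : b ∈ Subgroup.normalizer (K : Set Γ))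
    (hbK : ∃ x ∈ K, ¬ Commute b x) (hba : b ∈ killsComm a) {x : Γ} (hx : x ∈ K)
    (hnc : ∃ y ∈ K, ¬ Commute x y) :
    (∀ l, 2 ≤ l → l < p →
      ((a ^ l * x * (a ^ l)⁻¹ : Γ) : 𝔼) * ((x : 𝔼) - (a * x * a⁻¹ : Γ)) =
        (x : 𝔼) - (a * x * a⁻¹ : Γ)) ∧
    ((x : 𝔼) * (a * x * a⁻¹ : Γ)) * ((x : 𝔼) - (a * x * a⁻¹ : Γ)) =
      (x : 𝔼) - (a * x * a⁻¹ : Γ) := by
  have hpp : p.Prime := Fact.out
  have hp3 : 3 ≤ p := by have := hpp.two_le; omega
  have hab : Commute b a := congrArg Subtype.val (hAc.is_comm.comm ⟨b, hb⟩ ⟨a, ha⟩)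
  set π := prodHom hS ha hap hn with hπ
  have hpair : ∀ (w z : Γ), w ∈ K → z ∈ K → ∀ i j : ℕ, i < p → j < p → i ≠ j →
      Commute (a ^ i * w * (a ^ i)⁻¹) (a ^ j * z * (a ^ j)⁻¹) := fun w z hw hz i j hi hj hij =>
    hS.commute (pow_mem ha i) (pow_mem ha j) (pow_mul_not_mem hap hn hi hj hij) hw hz
  have hself : ∀ (y : Γ), y ∈ K → ∀ i j : ℕ, i < p → j < p →
      Commute (a ^ i * y * (a ^ i)⁻¹) (a ^ j * y * (a ^ j)⁻¹) := by
    intro y hy i j hi hj
    rcases eq_or_ne i j with rfl | hij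
    · exact Commute.refl _
    · exact hpair y y hy hy i j hi hj hij
  have hπa : ∀ y, Commute (π y) a := by
    intro y
    have h1 := orbitProd_shift a (y : Γ) p
    rw [orbitProd, hap, inv_one, one_mul, mul_one] at h1
    have h2 : Commute (y : Γ) (orbitProd a y p) := commute_orbitProd fun i hi => by
      simpa using hself y y.2 0 i (by omega) hi
    rw [← h2.eq] at h1
    have h3 := mul_left_cancel h1
    show orbitProd a (y : Γ) p * a = a * orbitProd a (y : Γ) p
    conv_lhs => rw [← h3]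
    group
  have hπb : ∀ (y : K) (h : b * y * b⁻¹ ∈ K), π ⟨b * y * b⁻¹, h⟩ = b * π y * b⁻¹ := by
    intro y _
    show orbitProd a (b * y * b⁻¹) p = b * orbitProd a y p * b⁻¹
    generalize p = n
    induction n with
    | zero => simp [orbitProd]
    | succ n ih =>
      rw [orbitProd, ih, orbitProd]
      have hc := (hab.pow_right n).eq
      calc _ = b * orbitProd a (y : Γ) n * b⁻¹ * ((a ^ n * b) * y * (a ^ n * b)⁻¹) := by group
        _ = _ := by rw [← hc]; group
  have hz := kills_of_normalizing hK π hπa hab hba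
    (fun y hy => (Subgroup.mem_normalizer_iff.mp hbN y).mp hy) hπb hbK ⟨x, hx⟩
  set X := (x : 𝔼) - (a * x * a⁻¹ : Γ) with hX
  have hzX : ((orbitProd a x p : Γ) : 𝔼) * X = X :=
    rel_of_kills (commute_orbitProd fun i hi => by simpa using hself x hx 0 i (by omega) hi).symm
      (hπa ⟨x, hx⟩) hz
  have hother : ∀ l, 2 ≤ l → l < p → ((a ^ l * x * (a ^ l)⁻¹ : Γ) : 𝔼) * X = X := by
    intro l hl hlp
    obtain ⟨g, hg, hgc⟩ := exists_orbitProd_eq_mul hlp fun i hi => hself x hx l i hlp hi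
    refine kill_conj hK hx hnc (g := g)
      (fun y hy => hgc _ fun i hi hne => hpair y x hy hx l i hlp hi hne.symm)
      (fun y hy => ?_) (by rw [← hg]; exact hzX) x hx
    have c0 := hpair y x hy hx l 0 hlp (by omega) (by omega)
    have c1 := hpair y x hy hx l 1 hlp (by omega) (by omega)
    simp only [pow_zero, one_mul, inv_one, mul_one, pow_one] at c0 c1
    exact (c0.map (Units.coeHom 𝔼)).sub_right (c1.map (Units.coeHom 𝔼))
  refine ⟨hother, ?_⟩
  have key : ∀ n, n + 2 ≤ p → ((orbitProd a x (n + 2) : Γ) : 𝔼) * X =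
      ((x : 𝔼) * (a * x * a⁻¹ : Γ)) * X := by
    intro n hn'
    induction n with
    | zero => simp [orbitProd]
    | succ n ih =>
      rw [orbitProd, Units.val_mul, mul_assoc, hother (n + 2) (by omega) (by omega), ih (by omega)]
  rw [← key (p - 2) (by omega), show p - 2 + 2 = p by omega, hzX]

/-- A mover of odd order, with a nonquadratic helper, is impossible. -/
theorem false_of_odd [Fact p.Prime] (hV : ∀ v : V, p • v = 0) (hp2 : p ≠ 2)
    (hK : Cfsg.IsQuasisimple K) {A : Subgroup Γ} (hS : Sep A K) (hA : Cfsg.IsElementaryAbelian p A)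
    {a b : Γ} (ha : a ∈ A) (hb : b ∈ A)
    (hn : a ∉ Subgroup.normalizer (K : Set Γ)) (hbN : b ∈ Subgroup.normalizer (K : Set Γ))
    (hbK : ∃ x ∈ K, ¬ Commute b x) (hba : ∀ c ∈ A, b ∈ killsComm c) : False := by
  obtain ⟨x, hxo, hxc⟩ := qs_exists_coprime_not_central (p := p) hK
  have hnc : ∃ y ∈ K, ¬ Commute (x : Γ) y := by
    by_contra hcon
    push Not at hcon
    exact hxc (Subgroup.mem_center_iff.mpr fun y => Subtype.ext (hcon y y.2).eq.symm)
  rw [← Subgroup.orderOf_coe] at hxo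
  have hpp : p.Prime := Fact.out
  have hp3 : 3 ≤ p := by have := hpp.two_le; omega
  obtain ⟨m, hm⟩ := hpp.odd_of_ne_two hp2
  have hap : a ^ p = 1 := hA.2 a ha
  have ha2 : a ^ 2 ∈ A := pow_mem ha 2
  have hn2 : a ^ 2 ∉ Subgroup.normalizer (K : Set Γ) :=
    pow_not_mem hap hn fun hd => by have := Nat.le_of_dvd (by norm_num) hd; omega
  obtain ⟨r1, r3⟩ := odd_relations hp2 hK hS hA.1 ha hb hap hn hbN hbK (hba a ha) x.2 hnc
  obtain ⟨r2, -⟩ := odd_relations hp2 hK hS hA.1 ha2 hb (hA.2 _ ha2) hn2 hbN hbK (hba _ ha2) x.2 hnc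
  have e : (a ^ 2) ^ (m + 1) = a := by
    rw [← pow_mul, show 2 * (m + 1) = p + 1 by omega, pow_succ, hap, one_mul]
  have r2' := r2 (m + 1) (by omega) (by omega)
  rw [e] at r2'
  have h01 := eq_of_three hV hxo (by rwa [orderOf_conj_eq]) (hS a ha hn x x.2 x x.2).symm
    (r1 2 le_rfl (by omega)) r2' r3
  exact (mover_conj_ne hS ha hn x.2 hnc).1 h01.symm

/-- Two movers of order two in different cosets, quadratic with each other, are impossible. -/
theorem false_of_four [Fact p.Prime] (hV : ∀ v : V, p • v = 0) (hp2 : p = 2)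
    (hK : Cfsg.IsQuasisimple K) {A : Subgroup Γ} (hS : Sep A K) (hA : Cfsg.IsElementaryAbelian p A)
    (hq : ∀ c ∈ A, ∀ d ∈ A, d ∈ killsComm c) {a a' : Γ} (ha : a ∈ A) (ha' : a' ∈ A)
    (hn : a ∉ Subgroup.normalizer (K : Set Γ)) (hn' : a' ∉ Subgroup.normalizer (K : Set Γ))
    (hn'' : a⁻¹ * a' ∉ Subgroup.normalizer (K : Set Γ)) : False := by
  obtain ⟨x, hxo, hxc⟩ := qs_exists_coprime_not_central (p := p) hK
  have hnc : ∃ y ∈ K, ¬ Commute (x : Γ) y := by
    by_contra hcon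
    push Not at hcon
    exact hxc (Subgroup.mem_center_iff.mpr fun y => Subtype.ext (hcon y y.2).eq.symm)
  rw [← Subgroup.orderOf_coe] at hxo
  have hsym : ∀ a a', a ∈ A → a' ∈ A → a⁻¹ * a' ∉ Subgroup.normalizer (K : Set Γ) →
      a'⁻¹ * a ∉ Subgroup.normalizer (K : Set Γ) := fun a a' _ _ h hh => h (by
    have := inv_mem hh
    rwa [mul_inv_rev, inv_inv] at this)
  have rels : ∀ a a' : Γ, a ∈ A → a' ∈ A → a ∉ Subgroup.normalizer (K : Set Γ) →
      a' ∉ Subgroup.normalizer (K : Set Γ) → a⁻¹ * a' ∉ Subgroup.normalizer (K : Set Γ) →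
      ((a' * x * a'⁻¹ : Γ) : 𝔼) * ((x : Γ) - (a * x * a⁻¹ : Γ) : 𝔼) =
          ((x : Γ) : 𝔼) - (a * x * a⁻¹ : Γ) ∧
      (((x : Γ) : 𝔼) * (a * x * a⁻¹ : Γ)) * ((x : Γ) - (a * x * a⁻¹ : Γ) : 𝔼) =
          ((x : Γ) : 𝔼) - (a * x * a⁻¹ : Γ) := by
    intro a a' ha ha' hn hn' hn''
    have h2 : a ^ 2 = 1 := hp2 ▸ hA.2 a ha
    have hai : a⁻¹ = a := inv_eq_of_mul_eq_one_right (by rw [← sq, h2])
    have haa : a' * a = a * a' := congrArg Subtype.val (hA.1.is_comm.comm ⟨a', ha'⟩ ⟨a, ha⟩)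
    have hn3 : a * a' ∉ Subgroup.normalizer (K : Set Γ) := by rw [← hai]; exact hn''
    have hn4 : a'⁻¹ * (a * a') ∉ Subgroup.normalizer (K : Set Γ) := by
      rw [← haa, inv_mul_cancel_left]; exact hn
    have hn5 : a⁻¹ * (a * a') ∉ Subgroup.normalizer (K : Set Γ) := by
      rw [inv_mul_cancel_left]; exact hn'
    have hconj : ∀ y : K, a' * pairHom hS ha hn y * a'⁻¹ =
        (a' * y * a'⁻¹) * ((a * a') * y * (a * a')⁻¹) := by
      intro y
      show a' * ((y : Γ) * (a * y * a⁻¹)) * a'⁻¹ = _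
      rw [show a * a' = a' * a from haa.symm]
      group
    have hdisj : ∀ y w : K, Commute (a' * pairHom hS ha hn y * a'⁻¹) (pairHom hS ha hn w) := by
      intro y w
      rw [hconj]
      have c1 := hS a' ha' hn' y y.2 w w.2
      have c2 := hS (a * a') (mul_mem ha ha') hn3 y y.2 w w.2
      have c3 := hS.commute ha' ha (hsym a a' ha ha' hn'') y.2 w.2
      have c4 := hS.commute (mul_mem ha ha') ha (hsym a (a * a') ha (mul_mem ha ha') hn5) y.2 w.2
      exact (commute_pairHom hS ha hn c1 c3).mul_left (commute_pairHom hS ha hn c2 c4)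
    obtain ⟨hz, hz'⟩ := kills_of_moving hK (pairHom hS ha hn)
      (fun y => pairHom_commute hS ha hn h2 y) (hq a ha a' ha') hdisj x
    have hzx : Commute (pairHom hS ha hn x) (x : Γ) :=
      (Commute.refl _).mul_left (hS a ha hn x x.2 x x.2)
    have r := rel_of_kills hzx (pairHom_commute hS ha hn h2 x) hz
    have hz'x : Commute (a' * pairHom hS ha hn x * a'⁻¹) (x : Γ) := by
      rw [hconj]
      exact (hS a' ha' hn' x x.2 x x.2).mul_left (hS _ (mul_mem ha ha') hn3 x x.2 x x.2)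
    have hz'a : Commute (a' * pairHom hS ha hn x * a'⁻¹) a := by
      have hpa := pairHom_commute hS ha hn h2 x
      exact ((Commute.mul_left haa hpa).mul_left ((show Commute a' a from haa).inv_left))
    have r' := rel_of_kills hz'x hz'a hz'
    refine ⟨?_, ?_⟩
    · refine kill_conj hK x.2 hnc (g := (a * a') * x * (a * a')⁻¹)
        (fun y hy => hS.commute ha' (mul_mem ha ha') hn4 hy x.2)
        (fun y hy => ((hS a' ha' hn' y hy x x.2).map (Units.coeHom 𝔼)).sub_right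
          ((hS.commute ha' ha (hsym a a' ha ha' hn'') hy x.2).map (Units.coeHom 𝔼))) ?_ x x.2
      rw [hconj, (hS.commute ha' (mul_mem ha ha') hn4 x.2 x.2).eq] at r'
      exact r'
    · rw [← Units.val_mul]
      exact r
  obtain ⟨r1, r3⟩ := rels a a' ha ha' hn hn' hn''
  obtain ⟨r2, -⟩ := rels a' a ha' ha hn' hn (hsym a a' ha ha' hn'')
  have h01 := eq_of_three hV hxo (by rwa [orderOf_conj_eq]) (hS a ha hn x x.2 x x.2).symm r1 r2 r3
  exact (mover_conj_ne hS ha hn x.2 hnc).1 h01.symm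

/-- A quadratic mover of odd prime order is impossible. -/
theorem false_of_odd_quadratic [Fact p.Prime] (hV : ∀ v : V, p • v = 0) (hp2 : p ≠ 2)
    (hK : Cfsg.IsQuasisimple K) {A : Subgroup Γ} (hS : Sep A K) {a : Γ} (ha : a ∈ A)
    (hn : a ∉ Subgroup.normalizer (K : Set Γ))
    (hq : ((a : 𝔼) - 1) * ((a : 𝔼) - 1) = 0) : False := by
  obtain ⟨x, hxo, hxc⟩ := qs_exists_coprime_not_central (p := p) hK
  have hnc : ∃ y ∈ K, ¬ Commute (x : Γ) y := by
    by_contra hcon
    push Not at hcon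
    exact hxc (Subgroup.mem_center_iff.mpr fun y => Subtype.ext (hcon y y.2).eq.symm)
  rw [← Subgroup.orderOf_coe] at hxo
  have h2 := hS a⁻¹ (inv_mem ha) (fun h => hn (inv_inv a ▸ inv_mem h)) x x.2 x x.2
  rw [inv_inv] at h2
  exact (mover_conj_ne hS ha hn x.2 hnc).1
    (eq_conj_of_quadratic hV hp2 hxo hq (hS a ha hn x x.2 x x.2).symm h2.symm)

end Cfsg.Agent.PGV
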