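import Cfsg.Agent.Lib.PGV.Two

/-!
# The case of two swapped quasisimple subgroups

* `false_of_single`: an involution moving `K` is not a transvection
* `exists_proj`: the projection onto `C_V(K)` along `[V, K]`
* `false_of_swap`: an offender `B` normalising `K` and centralising `[V, a]` forbids the swap
-/

set_option autoImplicit false
set_option linter.style.haveILetI false
set_option linter.unusedSectionVars false

namespace Cfsg.Agent.PGV

universe u

variable {V : Type u} [AddCommGroup V]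

local notation "Γ" => (Module.End ℤ V)ˣ
local notation "𝔼" => Module.End ℤ V

/-- An involution moving `K` with `|V : C_V(a)| ≤ 2` is impossible. -/
theorem false_of_single [Finite V] (hV2 : ∀ v : V, (2 : ℕ) • v = 0) {K : Subgroup Γ}
    (hK : Cfsg.IsQuasisimple K) {a : Γ} (ha2 : a ^ 2 = 1)
    (hc : ∀ x ∈ K, ∀ y ∈ K, Commute (a * x * a⁻¹) y)
    (hle : Nat.card V ≤ 2 * Nat.card (fixed (Subgroup.zpowers a))) : False := by
  refine false_of_transvection hV2 hK ha2 hc ⊤ (fun _ _ _ _ => trivial) (fun _ _ => trivial) ?_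
    (fun v => ⟨v, trivial, fun y _ => ⟨by simp, by simp⟩⟩)
  rw [← AddMonoidHom.range_eq_map]
  set f := ((a : 𝔼) - 1).toAddMonoidHom
  have h1 := AddSubgroup.card_mul_index f.ker
  rw [AddSubgroup.index_ker] at h1
  have h2 : fixed (Subgroup.zpowers a) ≤ f.ker := fun v hv => by
    show (a : 𝔼) v - v = 0
    rw [hv a (Subgroup.mem_zpowers a), sub_self]
  have h3 := AddSubgroup.card_le_of_le h2
  have h4 : 0 < Nat.card f.ker := Nat.card_pos
  refine Nat.le_of_mul_le_mul_left ?_ h4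
  calc Nat.card f.ker * Nat.card f.range = Nat.card V := h1
    _ ≤ 2 * Nat.card (fixed (Subgroup.zpowers a)) := hle
    _ ≤ 2 * Nat.card f.ker := Nat.mul_le_mul_left 2 h3
    _ = Nat.card f.ker * 2 := Nat.mul_comm _ _

/-- `e` is the projection onto the fixed points of `K` defined by every odd noncentral element. -/
structure IsProj (K : Subgroup (Module.End ℤ V)ˣ) (e : Module.End ℤ V) : Prop where
  idem : e * e = e
  commK : ∀ y ∈ K, Commute (y : Module.End ℤ V) e
  fixK : ∀ y ∈ K, (y : Module.End ℤ V) * e = e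
  avg_eq : ∀ x ∈ K, (orderOf x).Coprime 2 → (∃ y ∈ K, ¬ Commute x y) → avg x = e

theorem IsProj.commute_normalizer {K : Subgroup Γ} {e : 𝔼} (he : IsProj K e) {b : Γ}
    (hb : b ∈ Subgroup.normalizer (K : Set Γ)) {x : Γ} (hx : x ∈ K) (hxo : (orderOf x).Coprime 2)
    (hnc : ∃ y ∈ K, ¬ Commute x y) : Commute (b : 𝔼) e := by
  obtain ⟨y, hy, hxy⟩ := hnc
  have h1 : avg (b * x * b⁻¹) = e := by
    refine he.avg_eq _ ((Subgroup.mem_normalizer_iff.mp hb x).mp hx) (by rwa [orderOf_conj_eq])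
      ⟨b * y * b⁻¹, (Subgroup.mem_normalizer_iff.mp hb y).mp hy, fun hcm => hxy ?_⟩
    have := hcm.map (MulAut.conj b⁻¹).toMonoidHom
    simp only [MulEquiv.coe_toMonoidHom, MulAut.conj_apply, inv_inv] at this
    rwa [show b⁻¹ * (b * x * b⁻¹) * b = x by group, show b⁻¹ * (b * y * b⁻¹) * b = y by group] at this
  show (b : 𝔼) * e = e * b
  conv_lhs => rw [← he.avg_eq x hx hxo ⟨y, hy, hxy⟩, conj_avg, h1]

theorem exists_proj [Finite V] (hV2 : ∀ v : V, (2 : ℕ) • v = 0) {K : Subgroup Γ}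
    (hK : Cfsg.IsQuasisimple K) {a : Γ}
    (hc : ∀ x ∈ K, ∀ y ∈ K, Commute (a * x * a⁻¹) y)
    (hrel : ∀ x ∈ K, ((x * (a * x * a⁻¹) : Γ) : 𝔼) * ((x : 𝔼) - (a * x * a⁻¹ : Γ)) =
      (x : 𝔼) - (a * x * a⁻¹ : Γ)) :
    ∃ e, IsProj K e ∧ Commute (a : 𝔼) e := by
  have h2E := natCast_end_eq_zero hV2
  have main : ∀ x ∈ K, (orderOf x).Coprime 2 → (∃ y ∈ K, ¬ Commute x y) →
      (∀ y ∈ K, Commute (y : 𝔼) (avg x)) ∧ (∀ y ∈ K, (y : 𝔼) * avg x = avg x) ∧
        Commute (a : 𝔼) (avg x) := by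
    intro x hx hxo hnc
    set l := a * x * a⁻¹ with hl
    have hlo : (orderOf l).Coprime 2 := by rw [hl, orderOf_conj_eq]; exact hxo
    have hkl : Commute (x : 𝔼) (l : 𝔼) := (hc x hx x hx).symm.map (Units.coeHom 𝔼)
    have r := hrel x hx
    rw [← hl, Units.val_mul] at r
    have hle : (l : 𝔼) * avg x = avg x := by
      have hke := mul_avg x
      refine eq_of_sq_sub_mul (n := orderOf l) h2E
        (by rw [← Units.val_pow_eq_pow_val, pow_orderOf_eq_one, Units.val_one]) hlo ?_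
      have e1 : (x : 𝔼) * l * x * avg x = (l : 𝔼) * avg x := by
        rw [hkl.eq, mul_assoc, hke, mul_assoc, hke]
      have e2 : (x : 𝔼) * l * l * avg x = (l : 𝔼) * l * avg x := by
        rw [hkl.eq, mul_assoc (l : 𝔼), hkl.eq, ← mul_assoc, mul_assoc, hke]
      calc ((l : 𝔼) - 1) * (((l : 𝔼) - 1) * avg x)
          = (l : 𝔼) * l * avg x - (l : 𝔼) * avg x + ((x : 𝔼) * avg x - (l : 𝔼) * avg x)
            + (avg x - (x : 𝔼) * avg x) := by noncomm_ring
        _ = (x : 𝔼) * l * l * avg x - (x : 𝔼) * l * x * avg x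
            + ((x : 𝔼) - l) * avg x := by rw [e1, e2, hke, sub_self, add_zero, sub_mul, hke]
        _ = (-((x : 𝔼) * l * ((x : 𝔼) - l)) + ((x : 𝔼) - l)) * avg x := by noncomm_ring
        _ = 0 := by rw [r, neg_add_cancel, zero_mul]
    have hke' : (x : 𝔼) * avg l = avg l := by
      have hle' := mul_avg l
      refine eq_of_sq_sub_mul (n := orderOf x) h2E
        (by rw [← Units.val_pow_eq_pow_val, pow_orderOf_eq_one, Units.val_one]) hxo ?_
      have e1 : (x : 𝔼) * l * x * avg l = (x : 𝔼) * x * avg l := by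
        rw [mul_assoc (x : 𝔼), ← hkl.eq, ← mul_assoc, mul_assoc, hle']
      have e2 : (x : 𝔼) * l * l * avg l = (x : 𝔼) * avg l := by
        rw [mul_assoc, hle', mul_assoc, hle']
      calc ((x : 𝔼) - 1) * (((x : 𝔼) - 1) * avg l)
          = ((x : 𝔼) * x * avg l - (x : 𝔼) * avg l) - ((x : 𝔼) * avg l - (l : 𝔼) * avg l)
            + (avg l - (l : 𝔼) * avg l) := by noncomm_ring
        _ = ((x : 𝔼) * l * x * avg l - (x : 𝔼) * l * l * avg l) - ((x : 𝔼) - l) * avg l := by
            rw [e1, e2, hle', sub_self, add_zero, sub_mul, hle']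
        _ = ((x : 𝔼) * l * ((x : 𝔼) - l) - ((x : 𝔼) - l)) * avg l := by noncomm_ring
        _ = 0 := by rw [r, sub_self, zero_mul]
    have hcl : Commute (avg x) (avg l) := commute_avg (Commute.symm (commute_avg hkl.symm))
    have heq : avg x = avg l := avg_eq_of_fix hV2 hxo hlo hke' hle hcl
    have hcK : ∀ y ∈ K, Commute (y : 𝔼) (avg x) := fun y hy => by
      rw [heq]
      exact (commute_avg ((hc x hx y hy).map (Units.coeHom 𝔼))).symm
    refine ⟨hcK, qs_commute_of_kill hK hcK hx hnc fun y hy => ?_, ?_⟩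
    · have hke := mul_avg x
      rw [mul_assoc, (hcK y hy).eq, ← mul_assoc, hke, ← (hcK y hy).eq, mul_assoc, hke]
    · show (a : 𝔼) * avg x = avg x * a
      rw [conj_avg, ← hl, ← heq]
  obtain ⟨x, hxo, hxc⟩ := qs_exists_coprime_not_central (p := 2) hK
  have hnc : ∃ y ∈ K, ¬ Commute (x : Γ) y := by
    by_contra hcon
    push Not at hcon
    exact hxc (Subgroup.mem_center_iff.mpr fun y => Subtype.ext (hcon y y.2).eq.symm)
  rw [← Subgroup.orderOf_coe] at hxo
  obtain ⟨h1, h2, h3⟩ := main x x.2 hxo hnc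
  refine ⟨avg (x : Γ), ⟨avg_mul_of_fix hV2 hxo (mul_avg _), h1, h2, fun x' hx' hxo' hnc' => ?_⟩, h3⟩
  obtain ⟨h1', h2', -⟩ := main x' hx' hxo' hnc'
  exact avg_eq_of_fix hV2 hxo' hxo (h2 x' hx') (h2' x x.2) (commute_avg (h1 x' hx'))

/-- A vector of `[V, x]` fixed by an involution inverting `x` is a commutator. -/
theorem exists_commutator_of_fixed (hV2 : ∀ v : V, (2 : ℕ) • v = 0) {x b : Γ}
    (hxo : (orderOf x).Coprime 2) (hinv : b * x * b⁻¹ = x⁻¹) {v : V} (hv : avg x v = 0)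
    (hbv : (b : 𝔼) v = v) : ∃ w, avg x w = 0 ∧ (b : 𝔼) w - w = v := by
  obtain ⟨m, hm⟩ := Nat.coprime_two_right.mp hxo
  set X := (x : 𝔼) with hX
  refine ⟨∑ i ∈ Finset.range m, (X ^ (i + 1)) v, ?_, ?_⟩
  · rw [map_sum]
    refine Finset.sum_eq_zero fun i _ => ?_
    rw [← Module.End.mul_apply, (commute_avg ((Commute.refl X).pow_right (i + 1))).eq,
      Module.End.mul_apply, hv, map_zero]
  · have hb : ∀ i < m, (b : 𝔼) ((X ^ (i + 1)) v) = (X ^ (m + (m - 1 - i) + 1)) v := by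
      intro i hi
      rw [hX, ← Units.val_pow_eq_pow_val, ← Units.val_pow_eq_pow_val, ← unit_mul_apply]
      conv_lhs => rw [show b * x ^ (i + 1) = (b * x * b⁻¹) ^ (i + 1) * b by
        rw [conj_pow, inv_mul_cancel_right], hinv, unit_mul_apply, hbv]
      congr 2
      rw [inv_pow, inv_eq_iff_mul_eq_one, ← pow_add,
        show i + 1 + (m + (m - 1 - i) + 1) = 2 * m + 1 by omega, ← hm, pow_orderOf_eq_one]
    rw [map_sum, Finset.sum_congr rfl fun i hi => hb i (Finset.mem_range.mp hi),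
      Finset.sum_range_reflect (fun j => (X ^ (m + j + 1)) v) m]
    rw [avg, hm, Finset.sum_range_succ', pow_zero, LinearMap.add_apply, Module.End.one_apply,
      two_mul, Finset.sum_range_add, LinearMap.add_apply, LinearMap.sum_apply,
      LinearMap.sum_apply] at hv
    have hneg : ∀ w : V, -w = w := fun w => by
      have := hV2 w
      rw [two_nsmul] at this
      exact neg_eq_of_add_eq_zero_right this
    rw [← sub_eq_zero, ← hv, sub_eq_add_neg, sub_eq_add_neg, hneg, hneg]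
    abel

/-- **The swap case.** -/
theorem false_of_swap [Finite V] (hV2 : ∀ v : V, (2 : ℕ) • v = 0) {K : Subgroup Γ}
    (hK : Cfsg.IsQuasisimple K) {A : Subgroup Γ} (hS : Sep A K) (hA : Cfsg.IsElementaryAbelian 2 A)
    {a : Γ} (ha : a ∈ A) (hn : a ∉ Subgroup.normalizer (K : Set Γ)) {B : Subgroup Γ} (hBA : B ≤ A)
    (hBN : B ≤ Subgroup.normalizer (K : Set Γ)) (hBne : B ≠ ⊥)
    (hfaith : ∀ b ∈ B, b ≠ 1 → ∃ x ∈ K, ¬ Commute b x)
    (hq : ∀ b ∈ B, ∀ c ∈ B, c ∈ killsComm b) (hBa : ∀ b ∈ B, b ∈ killsComm a)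
    (hcard : Nat.card V ≤ 2 * (Nat.card B * Nat.card (fixed B))) : False := by
  classical
  have hai : a⁻¹ = a := inv_eq_of_mul_eq_one_right (by rw [← sq]; exact hA.2 a ha)
  have hcom : ∀ b ∈ B, Commute b a := fun b hb =>
    congrArg Subtype.val (hA.1.is_comm.comm ⟨b, hBA hb⟩ ⟨a, ha⟩)
  have hsq : ∀ b ∈ B, b * b = 1 := fun b hb => by rw [← sq]; exact hA.2 b (hBA hb)
  have hneg : ∀ w : V, -w = w := fun w => by
    have := hV2 w
    rw [two_nsmul] at this
    exact neg_eq_of_add_eq_zero_right this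
  obtain ⟨b₀, hb₀, hb₀1⟩ : ∃ b ∈ B, b ≠ 1 := by
    by_contra hcon
    push Not at hcon
    exact hBne ((Subgroup.eq_bot_iff_forall B).mpr hcon)
  have hkills : ∀ x ∈ K, (x * (a * x * a⁻¹)) ∈ killsComm a := by
    intro x hx
    exact kills_of_normalizing hK (pairHom hS ha hn) (pairHom_commute hS ha hn (hA.2 a ha))
      (hcom b₀ hb₀) (hBa b₀ hb₀)
      (fun y hy => (Subgroup.mem_normalizer_iff.mp (hBN hb₀) y).mp hy)
      (fun y _ => by
        show b₀ * y * b₀⁻¹ * (a * (b₀ * y * b₀⁻¹) * a⁻¹) = b₀ * (y * (a * y * a⁻¹)) * b₀⁻¹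
        calc _ = b₀ * y * b₀⁻¹ * ((a * b₀) * y * (a * b₀)⁻¹) := by group
          _ = _ := by rw [← (hcom b₀ hb₀).eq]; group)
      (hfaith b₀ hb₀ hb₀1) ⟨x, hx⟩
  have hrel : ∀ x ∈ K, ((x * (a * x * a⁻¹) : Γ) : 𝔼) * ((x : 𝔼) - (a * x * a⁻¹ : Γ)) =
      (x : 𝔼) - (a * x * a⁻¹ : Γ) := fun x hx =>
    rel_of_kills ((Commute.refl x).mul_left (hS a ha hn x hx x hx))
      (pairHom_commute hS ha hn (hA.2 a ha) ⟨x, hx⟩) (hkills x hx)
  obtain ⟨e, he, hea⟩ := exists_proj hV2 hK (hS a ha hn) hrel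
  have hinvx : ∀ b ∈ B, b ≠ 1 → ∃ x ∈ K, (orderOf x).Coprime 2 ∧ (∃ y ∈ K, ¬ Commute x y) ∧
      b * x * b⁻¹ = x⁻¹ := fun b hb h1 =>
    exists_inverted hK (hBN hb) (hsq b hb) (hfaith b hb h1)
  obtain ⟨x₀, hx₀, hx₀o, hx₀nc, hx₀inv⟩ := hinvx b₀ hb₀ hb₀1
  have hBe : ∀ b ∈ B, Commute (b : 𝔼) e := fun b hb =>
    he.commute_normalizer (hBN hb) hx₀ hx₀o hx₀nc
  set T : AddSubgroup V := e.toAddMonoidHom.ker with hT
  have hmem : ∀ v, v ∈ T ↔ e v = 0 := fun v => Iff.rfl
  have hinv : ∀ {g : 𝔼}, Commute g e → ∀ t ∈ T, g t ∈ T := by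
    intro g hg t ht
    rw [hmem, ← Module.End.mul_apply, ← hg.eq, Module.End.mul_apply, (hmem t).mp ht, map_zero]
  have hTK : ∀ y ∈ K, ∀ t ∈ T, (y : 𝔼) t ∈ T := fun y hy => hinv (he.commK y hy)
  set C := T ⊓ fixed B with hC
  have hquad : ∀ b ∈ B, ∀ w, (b : 𝔼) w - w ∈ fixed B := by
    intro b hb w c hc
    have h1 := DFunLike.congr_fun (show (c : 𝔼) * ((b : 𝔼) - 1) = (b : 𝔼) - 1 from hq b hb c hc) w
    exact h1
  have hJfix : ∀ w, (a : 𝔼) w - w ∈ fixed B := fun w b hb =>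
    DFunLike.congr_fun (show (b : 𝔼) * ((a : 𝔼) - 1) = (a : 𝔼) - 1 from hBa b hb) w
  have hfix : ∀ b ∈ B, b ≠ 1 → ∀ v ∈ T, (b : 𝔼) v = v → ∃ w ∈ T, (b : 𝔼) w - w = v := by
    intro b hb h1 v hv hbv
    obtain ⟨x, hx, hxo, hnc, hxi⟩ := hinvx b hb h1
    have hae := he.avg_eq x hx hxo hnc
    obtain ⟨w, hw, hwv⟩ := exists_commutator_of_fixed hV2 hxo hxi (v := v)
      (by rw [hae]; exact (hmem v).mp hv) hbv
    exact ⟨w, (hmem w).mpr (by rw [← hae]; exact hw), hwv⟩
  have hfixC : ∀ b ∈ B, b ≠ 1 → ∀ v ∈ T, (b : 𝔼) v = v → v ∈ C := by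
    intro b hb h1 v hv hbv
    obtain ⟨w, -, rfl⟩ := hfix b hb h1 v hv hbv
    exact ⟨hv, hquad b hb w⟩
  -- `|T| = |C|²`
  have hTC : Nat.card T = Nat.card C * Nat.card C := by
    set f := ((b₀ : 𝔼) - 1).toAddMonoidHom.comp T.subtype with hf
    have h1 := AddSubgroup.card_mul_index f.ker
    rw [AddSubgroup.index_ker] at h1
    have hr : f.range = C := by
      apply le_antisymm
      · rintro _ ⟨t, rfl⟩
        exact ⟨T.sub_mem (hinv (hBe b₀ hb₀) t t.2) t.2, hquad b₀ hb₀ t⟩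
      · rintro v ⟨hv, hvB⟩
        obtain ⟨w, hw, hwv⟩ := hfix b₀ hb₀ hb₀1 v hv (hvB b₀ hb₀)
        exact ⟨⟨w, hw⟩, hwv⟩
    have hk : f.ker.map T.subtype = C := by
      apply le_antisymm
      · rintro _ ⟨t, ht, rfl⟩
        exact hfixC b₀ hb₀ hb₀1 t t.2 (sub_eq_zero.mp ht)
      · rintro v ⟨hv, hvB⟩
        exact ⟨⟨v, hv⟩, sub_eq_zero.mpr (hvB b₀ hb₀), rfl⟩
    rw [← h1, hr, ← AddSubgroup.card_map_of_injective (f := T.subtype) T.subtype_injective, hk]
  -- `|T| ≤ 2 |B| |C|`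
  have hTB : Nat.card T ≤ 2 * (Nat.card B * Nat.card C) := by
    have h1 := AddSubgroup.relIndex_mul_relIndex ⊥ C T bot_le inf_le_left
    rw [AddSubgroup.relIndex_bot_left, AddSubgroup.relIndex_bot_left, hC, inf_comm,
      AddSubgroup.inf_relIndex_right, inf_comm, ← hC] at h1
    have h2 : (fixed B).relIndex T ≤ (fixed B).index :=
      Nat.le_of_dvd (Nat.pos_of_ne_zero AddSubgroup.index_ne_zero_of_finite)
        (AddSubgroup.relIndex_dvd_index_of_normal _ _)
    have h3 := AddSubgroup.card_mul_index (fixed B)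
    have h4 : (fixed B).index ≤ 2 * Nat.card B := by
      refine Nat.le_of_mul_le_mul_left ?_ (Nat.card_pos : 0 < Nat.card (fixed B))
      rw [h3]
      calc Nat.card V ≤ 2 * (Nat.card B * Nat.card (fixed B)) := hcard
        _ = _ := by ring
    calc Nat.card T = Nat.card C * (fixed B).relIndex T := h1.symm
      _ ≤ Nat.card C * (2 * Nat.card B) := Nat.mul_le_mul_left _ (h2.trans h4)
      _ = _ := by ring
  have hCB : Nat.card C ≤ 2 * Nat.card B := by
    refine Nat.le_of_mul_le_mul_left ?_ (Nat.card_pos : 0 < Nat.card C)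
    rw [← hTC]
    exact hTB.trans (le_of_eq (by ring))
  by_cases hex : ∃ v ∈ T, (a : 𝔼) v = v ∧ v ∉ C
  · obtain ⟨v, hv, hav, hvC⟩ := hex
    set J := T.map ((a : 𝔼) - 1).toAddMonoidHom with hJdef
    have hJC : ∀ j ∈ J, j ∈ C := by
      rintro _ ⟨t, ht, rfl⟩
      exact ⟨T.sub_mem (hinv hea t ht) ht, hJfix t⟩
    -- `(b - 1) v` is never a nonzero commutator with `a`
    have hzero : ∀ b ∈ B, ∀ w, (b : 𝔼) v - v = (a : 𝔼) w - w → (b : 𝔼) v = v := by
      intro b hb w hbw
      rcases eq_or_ne b 1 with rfl | h1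
      · rfl
      obtain ⟨x, hx, hxo, hnc, hxi⟩ := hinvx b hb h1
      have hae := he.avg_eq x hx hxo hnc
      set l := a * x * a⁻¹ with hl
      set z : Γ := x * l with hz
      have hxl : Commute x l := (hS a ha hn x hx x hx).symm
      have hzo : (orderOf z).Coprime 2 := by
        refine Nat.Coprime.coprime_dvd_left hxl.orderOf_mul_dvd_lcm ?_
        rw [hl, orderOf_conj_eq, Nat.lcm_self]
        exact hxo
      have haz : Commute z a := pairHom_commute hS ha hn (hA.2 a ha) ⟨x, hx⟩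
      have hbl : b * l * b⁻¹ = l⁻¹ := by
        calc b * l * b⁻¹ = (b * a) * x * (b * a)⁻¹ := by rw [hl]; group
          _ = a * (b * x * b⁻¹) * a⁻¹ := by rw [(hcom b hb).eq]; group
          _ = l⁻¹ := by rw [hxi, hl]; group
      have hbz : b * z * b⁻¹ = z⁻¹ := by
        rw [hz, show b * (x * l) * b⁻¹ = (b * x * b⁻¹) * (b * l * b⁻¹) by group, hxi, hbl,
          hxl.mul_inv]
      have hzi : avg z⁻¹ = avg z := by
        refine avg_eq_of_fix hV2 (by rwa [orderOf_inv]) hzo ?_ ?_ ?_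
        · conv_lhs => rw [← mul_avg z, ← mul_assoc, ← Units.val_mul, inv_mul_cancel, Units.val_one,
            one_mul]
        · conv_lhs => rw [← mul_avg z⁻¹, ← mul_assoc, ← Units.val_mul, mul_inv_cancel, Units.val_one,
            one_mul]
        · exact commute_avg (Commute.symm (commute_avg
            ((Commute.refl z).inv_right.map (Units.coeHom 𝔼))))
      have hbav : Commute (b : 𝔼) (avg z) := by
        show (b : 𝔼) * avg z = avg z * b
        rw [conj_avg, hbz, hzi]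
      have haav : Commute (a : 𝔼) (avg z) :=
        (commute_avg (haz.map (Units.coeHom 𝔼))).symm
      have heav : Commute e (avg z) := by
        refine (commute_avg ?_).symm
        rw [hz, Units.val_mul]
        refine (he.commK x hx).mul_left ?_
        rw [hl, Units.val_mul, Units.val_mul]
        exact (hea.mul_left (he.commK x hx)).mul_left (Commute.units_inv_left hea)
      -- the `z`-fixed part of `v`
      set v' := avg z v with hv'
      have hv'T : v' ∈ T := hinv heav.symm v hv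
      have hzv' : (z : 𝔼) v' = v' := by rw [hv', ← Module.End.mul_apply, mul_avg]
      have hav' : (a : 𝔼) v' = v' := by
        rw [hv', ← Module.End.mul_apply, haav.eq, Module.End.mul_apply, hav]
      have hu : (b : 𝔼) v' - v' = (b : 𝔼) v - v := by
        have h2 : avg z ((b : 𝔼) v - v) = (b : 𝔼) v - v := by
          rw [hbw]
          have hzk : (z : 𝔼) * ((a : 𝔼) - 1) = (a : 𝔼) - 1 := hkills x hx
          exact DFunLike.congr_fun (avg_mul_of_fix hV2 hzo hzk) w
        rw [← h2, map_sub, hv', ← Module.End.mul_apply, hbav.eq, Module.End.mul_apply]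
      -- on the `z`-fixed part `a b = 1`
      have hc : ∀ w' ∈ T, (z : 𝔼) w' = w' → (a : 𝔼) ((b : 𝔼) w') = w' := by
        intro w' hw' hzw'
        set c : Γ := a * b with hcdef
        set y := (c : 𝔼) w' - w' with hy
        have hay : ∀ u : V, (a : 𝔼) ((c : 𝔼) u - u) = (c : 𝔼) u - u := by
          intro u
          have h1 : (b : 𝔼) ((a : 𝔼) u - u) = (a : 𝔼) u - u := hJfix u b hb
          rw [map_sub, ← apply_comm_of_commute (hcom b hb).symm] at h1
          have h4 : ∀ w, (a : 𝔼) ((a : 𝔼) w) = w := fun w => by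
            rw [← unit_mul_apply, show a * a = 1 by rw [← sq]; exact hA.2 a ha, unit_one_apply]
          rw [hcdef, unit_mul_apply, map_sub, h4, eq_add_of_sub_eq h1, ← sub_eq_zero,
            show (b : 𝔼) u - (a : 𝔼) u - ((a : 𝔼) u - u + (b : 𝔼) u - u) =
              2 • u - 2 • (a : 𝔼) u by abel, hV2, hV2, sub_zero]
        have hcT : ∀ u ∈ T, (c : 𝔼) u - u ∈ T := fun u hu' => by
          refine sub_mem ?_ hu'
          rw [hcdef, unit_mul_apply]
          exact hinv hea _ (hinv (hBe b hb) u hu')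
        have hzc : c * z = z⁻¹ * c := by
          rw [hcdef, show a * b * z = a * (b * z * b⁻¹) * b by group, hbz,
            ← haz.inv_left.eq, mul_assoc]
        have hzcw : (z : 𝔼) ((c : 𝔼) w') = (c : 𝔼) w' := by
          conv_lhs => rw [← hzw', ← unit_mul_apply c z, hzc, ← unit_mul_apply, mul_inv_cancel_left]
        have hzy : (z : 𝔼) y = y := by rw [hy, map_sub, hzcw, hzw']
        have hck : c * x = l⁻¹ * c := by
          rw [hcdef, hl, show a * b * x = a * (b * x * b⁻¹) * b by group, hxi]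
          group
        have hkc : (c : 𝔼) ((x : 𝔼) w') = (x : 𝔼) ((c : 𝔼) w') := by
          rw [← unit_mul_apply, hck, unit_mul_apply]
          apply unit_injective l
          rw [unit_apply_inv, ← unit_mul_apply, ← hxl.eq, ← hz, hzcw]
        have haky : (a : 𝔼) ((x : 𝔼) y) = (x : 𝔼) y := by
          rw [hy, map_sub, ← hkc]
          exact hay _
        have hky : (x : 𝔼) ((x : 𝔼) y) = y := by
          have h1 : (l : 𝔼) y = (x : 𝔼) y := by
            have hay' : (a : 𝔼) y = y := hay w'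
            conv_lhs => rw [← hay', hl, ← unit_mul_apply, inv_mul_cancel_right,
              unit_mul_apply, haky]
          rw [← h1, ← unit_mul_apply, ← hz]
          exact hzy
        have hky1 := eq_of_sq_apply hV2 hxo hky
        have hey : e y = y := by
          rw [← hae, avg, LinearMap.sum_apply]
          simp only [apply_pow_eq_self hky1, Finset.sum_const, Finset.card_range]
          obtain ⟨m, hm⟩ := Nat.coprime_two_right.mp hxo
          rw [hm, succ_nsmul, mul_comm, mul_nsmul, hV2, zero_add]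
        have : y = 0 := hey.symm.trans ((hmem y).mp (hcT w' hw'))
        exact sub_eq_zero.mp this
      have hbv' : (b : 𝔼) v' = v' := by
        apply unit_injective a
        rw [hc v' hv'T hzv', hav']
      rw [← sub_eq_zero, ← hu, hbv', sub_self]
    -- injectivity of `B × J → C`
    let φ : ↥B × ↥J → ↥C := fun q => ⟨(((q.1 : Γ) : 𝔼) v - v) + (q.2 : V),
      C.add_mem ⟨T.sub_mem (hinv (hBe _ q.1.2) v hv) hv, hquad _ q.1.2 v⟩ (hJC _ q.2.2)⟩
    have hφ : Function.Injective φ := by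
      rintro ⟨⟨b, hb⟩, ⟨j, hj⟩⟩ ⟨⟨b', hb'⟩, ⟨j', hj'⟩⟩ heq
      have heq' : (b : 𝔼) v - v + j = (b' : 𝔼) v - v + j' := congrArg (fun z : C => (z : V)) heq
      have hd : j' - j ∈ J := sub_mem hj' hj
      have hmem' : (b'⁻¹ * b : Γ) ∈ B := mul_mem (inv_mem hb') hb
      have h1 : (b : 𝔼) v - (b' : 𝔼) v = j' - j := by
        rw [← sub_eq_zero, show (b : 𝔼) v - (b' : 𝔼) v - (j' - j) =
          ((b : 𝔼) v - v + j) - ((b' : 𝔼) v - v + j') by abel, heq', sub_self]
      have h2 : ((b'⁻¹ * b : Γ) : 𝔼) v - v = j' - j := by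
        rw [← (hJC _ hd).2 _ (inv_mem hb'), ← h1, map_sub, ← unit_mul_apply, ← unit_mul_apply,
          inv_mul_cancel, unit_one_apply]
      obtain ⟨t, -, htj⟩ := hd
      have h3 := hzero _ hmem' t (h2.trans htj.symm)
      have h4 : b'⁻¹ * b = 1 := by
        by_contra h5
        exact hvC (hfixC _ hmem' h5 v hv h3)
      obtain rfl : b' = b := inv_mul_eq_one.mp h4
      rw [Prod.mk.injEq]
      exact ⟨rfl, Subtype.ext (add_left_cancel heq')⟩
    have hcount := Nat.card_le_card_of_injective φ hφ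
    rw [Nat.card_prod] at hcount
    have hJ2 : Nat.card J ≤ 2 :=
      Nat.le_of_mul_le_mul_left (hcount.trans (hCB.trans (le_of_eq (Nat.mul_comm _ _)))) Nat.card_pos
    refine false_of_transvection hV2 hK (hA.2 a ha) (hS a ha hn) T hTK (hinv hea) hJ2 fun v => ?_
    refine ⟨v - e v, ?_, fun y hy => ?_⟩
    · rw [hmem, map_sub, ← Module.End.mul_apply, he.idem, sub_self]
    · rw [sub_sub_cancel]
      refine ⟨by rw [← Module.End.mul_apply, he.fixK y hy], ?_⟩
      rw [← Module.End.mul_apply, Units.val_mul, Units.val_mul, mul_assoc,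
        (Commute.units_inv_left hea).eq, ← mul_assoc, mul_assoc (a : 𝔼), he.fixK y hy, hea.eq,
        mul_assoc, ← Units.val_mul, mul_inv_cancel, Units.val_one, mul_one]
  · push Not at hex
    obtain ⟨x, hx, hxo, hnc, hxi⟩ := hinvx b₀ hb₀ hb₀1
    set l := a * x * a⁻¹ with hl
    set z : Γ := x * l with hz
    have hxl : Commute x l := (hS a ha hn x hx x hx).symm
    have hzo : (orderOf z).Coprime 2 := by
      refine Nat.Coprime.coprime_dvd_left hxl.orderOf_mul_dvd_lcm ?_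
      rw [hl, orderOf_conj_eq, Nat.lcm_self]
      exact hxo
    have haz : Commute z a := pairHom_commute hS ha hn (hA.2 a ha) ⟨x, hx⟩
    have hbl : b₀ * l * b₀⁻¹ = l⁻¹ := by
      calc b₀ * l * b₀⁻¹ = (b₀ * a) * x * (b₀ * a)⁻¹ := by rw [hl]; group
        _ = a * (b₀ * x * b₀⁻¹) * a⁻¹ := by rw [(hcom b₀ hb₀).eq]; group
        _ = l⁻¹ := by rw [hxi, hl]; group
    have hbz : b₀ * z * b₀⁻¹ = z⁻¹ := by
      rw [hz, show b₀ * (x * l) * b₀⁻¹ = (b₀ * x * b₀⁻¹) * (b₀ * l * b₀⁻¹) by group, hxi, hbl,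
        hxl.mul_inv]
    have hze : Commute (z : 𝔼) e := by
      rw [hz, Units.val_mul]
      refine (he.commK x hx).mul_left ?_
      rw [hl, Units.val_mul, Units.val_mul]
      exact (hea.mul_left (he.commK x hx)).mul_left (Commute.units_inv_left hea)
    have hzk : (z : 𝔼) * ((a : 𝔼) - 1) = (a : 𝔼) - 1 := hkills x hx
    -- `(z - 1) T` is fixed by `a`, hence by `b₀`
    have hU : ∀ t ∈ T, (b₀ : 𝔼) ((z : 𝔼) t - t) = (z : 𝔼) t - t := by
      intro t ht
      refine (hex _ (sub_mem (hinv hze t ht) ht) ?_).2 b₀ hb₀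
      have h1 : ((a : 𝔼) - 1) * ((z : 𝔼) - 1) = 0 := by
        calc ((a : 𝔼) - 1) * ((z : 𝔼) - 1)
            = (a : 𝔼) * z - z - ((a : 𝔼) - 1) := by noncomm_ring
          _ = (z : 𝔼) * a - z - ((a : 𝔼) - 1) := by
              rw [← Units.val_mul, ← haz.eq, Units.val_mul]
          _ = (z : 𝔼) * ((a : 𝔼) - 1) - ((a : 𝔼) - 1) := by noncomm_ring
          _ = 0 := by rw [hzk, sub_self]
      exact sub_eq_zero.mp (DFunLike.congr_fun h1 t)
    have hzT : ∀ t ∈ T, (z : 𝔼) t = t := by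
      intro t ht
      refine apply_eq_of_sq_sub hV2 hzo ?_
      set u := (z : 𝔼) t - t with hu
      have h1 : (b₀ : 𝔼) u = u := hU t ht
      have h2 : (b₀ : 𝔼) ((z : 𝔼) u) = (z : 𝔼) u := by
        have h3 := hU ((z : 𝔼) t) (hinv hze t ht)
        rwa [← map_sub] at h3
      refine eq_of_sq_apply hV2 hzo ?_
      have h4 : b₀ * z = z⁻¹ * b₀ := by rw [← hbz]; group
      rw [← unit_mul_apply, h4, unit_mul_apply, h1] at h2
      apply unit_injective z⁻¹
      rw [unit_inv_apply]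
      exact h2.symm
    refine (mover_conj_ne hS ha hn hx hnc).2 (eq_inv_of_mul_eq_one_right ?_)
    rw [← hl, ← hz]
    refine Units.ext (LinearMap.ext fun v => ?_)
    have h1 : v = (v - e v) + e v := (sub_add_cancel v (e v)).symm
    rw [unit_one_apply]
    conv_lhs => rw [h1, map_add]
    rw [hzT _ (by rw [hmem, map_sub, ← Module.End.mul_apply, he.idem, sub_self])]
    conv_rhs => rw [h1]
    congr 1
    rw [← Module.End.mul_apply, hz, Units.val_mul, hl, Units.val_mul, Units.val_mul, mul_assoc,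
      mul_assoc, mul_assoc, (Commute.units_inv_left hea).eq, ← mul_assoc (x : 𝔼) e,
      he.fixK x hx, ← mul_assoc (a : 𝔼), hea.eq, mul_assoc, ← Units.val_mul, mul_inv_cancel,
      Units.val_one, mul_one, he.fixK x hx]

end Cfsg.Agent.PGV
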