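import Cfsg.Agent.Lib.PGV.Swap

/-!
# The P(G,V)-theorem for subgroups of operators

* `le_normalizer_of_best`: an elementary abelian best offender `A` on a finite abelian group of
  exponent `p` normalises every quasisimple `K` with `Sep A K`
-/

set_option autoImplicit false
set_option linter.style.haveILetI false
set_option linter.unusedSectionVars false

namespace Cfsg.Agent.PGV

universe u

variable {V : Type u} [AddCommGroup V]

local notation "Γ" => (Module.End ℤ V)ˣ
local notation "𝔼" => Module.End ℤ V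

/-- Restriction of operators commuting with `C` to the fixed points of `C`. -/
def restrictHom (C : Subgroup (Module.End ℤ V)ˣ) :
    ↥(Subgroup.centralizer (C : Set (Module.End ℤ V)ˣ)) →* (Module.End ℤ ↥(fixed C))ˣ :=
  MonoidHom.toHomUnits
    { toFun := fun g => AddMonoidHom.toIntLinearMap
        { toFun := fun w => ⟨((g : (Module.End ℤ V)ˣ) : Module.End ℤ V) w, fun c hc => by
            rw [apply_comm_of_commute (show Commute c g from
              Subgroup.mem_centralizer_iff.mp g.2 c hc), w.2 c hc]⟩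
          map_zero' := Subtype.ext (map_zero _)
          map_add' := fun v w => Subtype.ext (map_add _ _ _) }
      map_one' := LinearMap.ext fun w => rfl
      map_mul' := fun g h => LinearMap.ext fun w => rfl }

theorem restrictHom_apply (C : Subgroup Γ) (g : ↥(Subgroup.centralizer (C : Set Γ)))
    (w : fixed C) :
    (((restrictHom C g : Module.End ℤ ↥(fixed C)) w : fixed C) : V) = ((g : Γ) : 𝔼) w := rfl

/-- The induction hypothesis: smaller offenders, on any module, normalise `K`. -/
def Below (p n : ℕ) : Prop :=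
  ∀ (W : Type u) [AddCommGroup W] [Finite W], (∀ w : W, p • w = 0) →
    ∀ K A : Subgroup (Module.End ℤ W)ˣ, Cfsg.IsQuasisimple K → Cfsg.IsElementaryAbelian p A →
      Best A → Sep A K → Nat.card A < n → A ≤ Subgroup.normalizer (K : Set (Module.End ℤ W)ˣ)

variable [Finite V] {p : ℕ} [Fact p.Prime]

/-- A minimal counterexample acts faithfully on `K`. -/
theorem exists_not_commute_of_below (hV : ∀ v : V, p • v = 0) {K A : Subgroup Γ}
    (hK : Cfsg.IsQuasisimple K) (hA : Cfsg.IsElementaryAbelian p A) (hbest : Best A)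
    (hS : Sep A K) (ih : Below.{u} p (Nat.card A)) {a : Γ} (ha : a ∈ A)
    (hn : a ∉ Subgroup.normalizer (K : Set Γ)) {b : Γ} (hb : b ∈ A) (hb1 : b ≠ 1) :
    ∃ x ∈ K, ¬ Commute b x := by
  by_contra hcon
  push Not at hcon
  have hcomm : ∀ c ∈ A, ∀ d ∈ A, Commute c d := fun c hc d hd =>
    congrArg Subtype.val (hA.1.is_comm.comm ⟨c, hc⟩ ⟨d, hd⟩)
  set C := A ⊓ Subgroup.centralizer (K : Set Γ) with hCdef
  have hbC : b ∈ C := ⟨hb, Subgroup.mem_centralizer_iff.mpr fun x hx => (hcon x hx).eq.symm⟩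
  have hCp : IsPGroup p C := fun c => ⟨1, Subtype.ext (by rw [pow_one]; exact hA.2 c c.2.1)⟩
  set Z := Subgroup.centralizer (C : Set Γ) with hZ
  have hAZ : A ≤ Z := fun c hc => Subgroup.mem_centralizer_iff.mpr fun d hd =>
    (hcomm d hd.1 c hc).eq
  have hKZ : K ≤ Z := fun x hx => Subgroup.mem_centralizer_iff.mpr fun d hd =>
    (Subgroup.mem_centralizer_iff.mp hd.2 x hx).symm
  set φ := restrictHom C with hφ
  set ψ : ↥A →* (Module.End ℤ ↥(fixed C))ˣ := φ.comp (Subgroup.inclusion hAZ) with hψ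
  set χ : ↥K →* (Module.End ℤ ↥(fixed C))ˣ := φ.comp (Subgroup.inclusion hKZ) with hχ
  have hψapp : ∀ (c : A) (w : fixed C),
      (((ψ c : Module.End ℤ ↥(fixed C)) w : fixed C) : V) = ((c : Γ) : 𝔼) w := fun c w => rfl
  -- `K` is still quasisimple on the fixed points
  haveI : Nontrivial χ.range := by
    rw [Subgroup.nontrivial_iff_ne_bot]
    intro hbot
    obtain ⟨x, hxo, hxc⟩ := qs_exists_coprime_not_central (p := p) hK
    refine hxc (Subgroup.mem_center_iff.mpr fun y => ?_)
    suffices h1 : (x : Γ) = 1 by rw [show x = 1 from Subtype.ext h1, mul_one, one_mul]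
    have hfix : ∀ w ∈ fixed C, ((x : Γ) : 𝔼) w = w := by
      intro w hw
      have hχx : χ x = 1 := Subgroup.mem_bot.mp (hbot ▸ ⟨x, rfl⟩)
      exact congrArg Subtype.val (DFunLike.congr_fun (congrArg Units.val hχx) (⟨w, hw⟩ : fixed C))
    set S := ((((x : Γ)) : 𝔼) - 1).toAddMonoidHom.range with hSdef
    have hinv : ∀ c ∈ C, ∀ s ∈ S, (c : 𝔼) s ∈ S := by
      rintro c hc _ ⟨u, rfl⟩
      refine ⟨(c : 𝔼) u, ?_⟩
      show ((x : Γ) : 𝔼) ((c : 𝔼) u) - (c : 𝔼) u = (c : 𝔼) (((x : Γ) : 𝔼) u - u)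
      rw [map_sub, apply_comm_of_commute (show Commute (x : Γ) c from
        Subgroup.mem_centralizer_iff.mp hc.2 x x.2)]
    by_contra h1
    have hSne : S ≠ ⊥ := fun hS0 => h1 <| Units.ext <| LinearMap.ext fun u => by
      rw [unit_one_apply]
      exact sub_eq_zero.mp (AddSubgroup.mem_bot.mp (hS0 ▸ ⟨u, rfl⟩ : ((x : Γ) : 𝔼) u - u ∈ _))
    obtain ⟨w, ⟨u, rfl⟩, hw0, hwC⟩ := exists_fixed_ne_zero hV hCp S hSne hinv
    rw [← Subgroup.orderOf_coe] at hxo
    exact hw0 (sub_eq_zero.mpr (apply_eq_of_sq_sub hV hxo (hfix _ hwC)))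
  have hK' : Cfsg.IsQuasisimple χ.range :=
    Components.IsQuasisimple.of_surjective hK χ.rangeRestrict χ.rangeRestrict_surjective
  have hA' : Cfsg.IsElementaryAbelian p ψ.range := by
    refine ⟨⟨⟨?_⟩⟩, ?_⟩
    · rintro ⟨_, c, rfl⟩ ⟨_, d, rfl⟩
      exact Subtype.ext (show ψ c * ψ d = ψ d * ψ c by
        rw [← map_mul, ← map_mul, hA.1.is_comm.comm c d])
    · rintro _ ⟨c, rfl⟩
      rw [← map_pow, show c ^ p = 1 from Subtype.ext (hA.2 c c.2), map_one]
  have hker : ∀ c : A, (c : Γ) ∈ C → ψ c = 1 := fun c hc =>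
    Units.ext (LinearMap.ext fun w => Subtype.ext (w.2 _ hc))
  -- sizes
  have key : ∀ C' : Subgroup (Module.End ℤ ↥(fixed C))ˣ, C' ≤ ψ.range →
      Nat.card ((C'.comap ψ).map A.subtype) * Nat.card (fixed ((C'.comap ψ).map A.subtype)) =
        Nat.card ψ.ker * (Nat.card C' * Nat.card (fixed C')) := by
    intro C' hC'
    set B := (C'.comap ψ).map A.subtype with hBdef
    have h1 : Nat.card (C'.comap ψ) = Nat.card ψ.ker * Nat.card C' := by
      have e1 := Subgroup.card_mul_index (C'.comap ψ)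
      rw [Subgroup.index_comap, ← Subgroup.card_mul_index ψ.ker, Subgroup.index_ker] at e1
      have e2 := Subgroup.relIndex_mul_relIndex ⊥ C' ψ.range bot_le hC'
      rw [Subgroup.relIndex_bot_left, Subgroup.relIndex_bot_left] at e2
      rw [← e2, ← mul_assoc] at e1
      exact Nat.eq_of_mul_eq_mul_right
        (Nat.pos_of_ne_zero Subgroup.index_ne_zero_of_finite) e1
    have hCB : C ≤ B := fun c hc => ⟨⟨c, hc.1⟩, by
      rw [SetLike.mem_coe, Subgroup.mem_comap, hker _ hc]; exact one_mem C', rfl⟩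
    have h2 : Nat.card (fixed B) = Nat.card (fixed C') := by
      refine Nat.card_congr
        { toFun := fun v => ⟨⟨v, fixed_antitone hCB v.2⟩, fun g hg => ?_⟩
          invFun := fun w => ⟨(w : fixed C), ?_⟩
          left_inv := fun v => rfl
          right_inv := fun w => rfl }
      · obtain ⟨c, rfl⟩ := hC' hg
        exact Subtype.ext (v.2 c ⟨c, hg, rfl⟩)
      · rintro _ ⟨c, hc, rfl⟩
        exact congrArg Subtype.val (w.2 (ψ c) hc)
    rw [h2, hBdef, Subgroup.card_map_of_injective A.subtype_injective, h1, mul_assoc]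
  have htop : (ψ.range.comap ψ).map A.subtype = A := by
    rw [show ψ.range.comap ψ = ⊤ from eq_top_iff.mpr fun c _ => ⟨c, rfl⟩, ← MonoidHom.range_eq_map,
      Subgroup.range_subtype]
  have hbest' : Best ψ.range := by
    intro C' hC'
    have h1 := hbest _ (Subgroup.map_subtype_le (C'.comap ψ))
    rw [key C' hC'] at h1
    have h2 := key ψ.range le_rfl
    rw [htop] at h2
    rw [h2] at h1
    exact Nat.le_of_mul_le_mul_left h1 Nat.card_pos
  have hlt : Nat.card ψ.range < Nat.card A := by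
    rw [← Subgroup.index_ker ψ, ← Subgroup.card_mul_index ψ.ker]
    have h1 : 1 < Nat.card ψ.ker := by
      rw [Subgroup.one_lt_card_iff_ne_bot]
      intro hbot
      have hmem : (⟨b, hb⟩ : A) ∈ ψ.ker := hker _ hbC
      rw [hbot, Subgroup.mem_bot] at hmem
      exact hb1 (congrArg Subtype.val hmem)
    exact lt_mul_of_one_lt_left (Nat.pos_of_ne_zero Subgroup.index_ne_zero_of_finite) h1
  have hconj : ∀ (c : A) (x : K) (h : (c : Γ) * x * (c : Γ)⁻¹ ∈ Z),
      φ ⟨(c : Γ) * x * (c : Γ)⁻¹, h⟩ = ψ c * χ x * (ψ c)⁻¹ := by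
    intro c x h
    rw [hψ, hχ, MonoidHom.comp_apply, MonoidHom.comp_apply, ← map_inv, ← map_mul, ← map_mul]
    rfl
  have hZmem : ∀ (c : A) (x : K), (c : Γ) * x * (c : Γ)⁻¹ ∈ Z := fun c x =>
    mul_mem (mul_mem (hAZ c.2) (hKZ x.2)) (inv_mem (hAZ c.2))
  have hS' : Sep ψ.range χ.range := by
    rintro _ ⟨c, rfl⟩ hcn _ ⟨x, rfl⟩ _ ⟨y, rfl⟩
    have hcn' : (c : Γ) ∉ Subgroup.normalizer (K : Set Γ) := by
      intro h
      refine hcn (Subgroup.mem_normalizer_fintype ?_)
      rintro _ ⟨z, rfl⟩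
      refine ⟨⟨_, (Subgroup.mem_normalizer_iff.mp h z).mp z.2⟩, ?_⟩
      rw [← hconj c z (hZmem c z)]
      rfl
    rw [← hconj c x (hZmem c x)]
    exact (show Commute (⟨_, hZmem c x⟩ : Z) (Subgroup.inclusion hKZ y) from
      Subtype.ext (hS c c.2 hcn' x x.2 y y.2).eq).map φ
  have hmove : ψ ⟨a, ha⟩ ∉ Subgroup.normalizer (χ.range : Set (Module.End ℤ ↥(fixed C))ˣ) := by
    intro h
    obtain ⟨_, ⟨x, rfl⟩, _, ⟨y, rfl⟩, hxy⟩ := not_commute_self hK'
    apply hxy
    set g := ψ ⟨a, ha⟩ with hg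
    obtain ⟨z, hz⟩ := (Subgroup.mem_normalizer_iff''.mp h (χ x)).mp ⟨x, rfl⟩
    rw [show χ x = g * (g⁻¹ * χ x * g) * g⁻¹ by group, ← hz, hg, ← hconj ⟨a, ha⟩ z (hZmem _ z)]
    exact (show Commute (⟨_, hZmem ⟨a, ha⟩ z⟩ : Z) (Subgroup.inclusion hKZ y) from
      Subtype.ext (hS a ha hn z z.2 y y.2).eq).map φ
  exact hmove (ih ↥(fixed C) (fun w => Subtype.ext (by simpa using hV w)) χ.range ψ.range hK' hA'
    hbest' hS' hlt ⟨_, rfl⟩)

/-- An elementary abelian best offender normalises every quasisimple `K` with `Sep A K`. -/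
theorem le_normalizer_aux (n : ℕ) : Below.{u} p n := by
  induction n with
  | zero => intro W _ _ _ K A _ _ _ _ h; omega
  | succ n ihn =>
    intro V _ _ hV K A hK hA hbest hS hlt
    rcases Nat.lt_succ_iff_lt_or_eq.mp hlt with h | h
    · exact ihn V hV K A hK hA hbest hS h
    subst h
    intro a ha
    by_contra hn
    have hne : A ≠ ⊥ := fun h0 => hn (by
      rw [Subgroup.mem_bot.mp (h0 ▸ ha : a ∈ (⊥ : Subgroup (Module.End ℤ V)ˣ))]
      exact one_mem _)
    have hfaith : ∀ b ∈ A, b ≠ 1 → ∃ x ∈ K, ¬ Commute b x := fun b hb hb1 =>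
      exists_not_commute_of_below hV hK hA hbest hS ihn ha hn hb hb1
    obtain ⟨hBbest, hBne⟩ := timmesfeld hV hA hne hbest
    set B := stab A (comms A : Set V) with hBdef
    have hkills : ∀ b ∈ B, ∀ c ∈ A, b ∈ killsComm c := fun b hb c hc =>
      LinearMap.ext fun v => hb.2 _ (AddSubgroup.subset_closure ⟨c, hc, v, rfl⟩)
    have hBA : B ≤ A := stab_le A _
    have hsq2 : ∀ C : Subgroup (Module.End ℤ V)ˣ, C ≤ A → Cfsg.IsElementaryAbelian p C :=
      fun C hC => ⟨⟨⟨fun x y => Subtype.ext (show (x : (Module.End ℤ V)ˣ) * y = y * x from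
        congrArg Subtype.val (hA.1.is_comm.comm (⟨x, hC x.2⟩ : A) ⟨y, hC y.2⟩))⟩⟩,
        fun x hx => hA.2 x (hC hx)⟩
    rcases eq_or_lt_of_le hBA with hBeq | hBlt
    · -- `A` is quadratic
      have hq : ∀ c ∈ A, ∀ d ∈ A, d ∈ killsComm c := fun c hc d hd =>
        hkills d (hBeq.symm ▸ hd) c hc
      by_cases hp2 : p = 2
      · by_cases hex : ∃ a' ∈ A, a' ∉ Subgroup.normalizer (K : Set (Module.End ℤ V)ˣ) ∧
            a⁻¹ * a' ∉ Subgroup.normalizer (K : Set (Module.End ℤ V)ˣ)
        · obtain ⟨a', ha', hn', hn''⟩ := hex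
          exact false_of_four hV hp2 hK hS hA hq ha ha' hn hn' hn''
        · push Not at hex
          subst hp2
          set A₀ := A ⊓ Subgroup.normalizer (K : Set (Module.End ℤ V)ˣ) with hA₀
          have hcard : Nat.card A ≤ 2 * Nat.card A₀ := by
            classical
            let f : A → Bool × A₀ := fun c =>
              if h : (c : (Module.End ℤ V)ˣ) ∈ Subgroup.normalizer (K : Set (Module.End ℤ V)ˣ) then
                (false, ⟨c, c.2, h⟩)
              else (true, ⟨a⁻¹ * c, A.mul_mem (A.inv_mem ha) c.2, hex c c.2 h⟩)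
            have hf : Function.Injective f := by
              intro c d hcd
              simp only [f] at hcd
              split at hcd <;> split at hcd <;> simp at hcd
              · exact Subtype.ext (congrArg (fun z : A₀ => (z : (Module.End ℤ V)ˣ)) hcd)
              · exact Subtype.ext (mul_left_cancel
                  (congrArg (fun z : A₀ => (z : (Module.End ℤ V)ˣ)) hcd))
            have := Nat.card_le_card_of_injective f hf
            rwa [Nat.card_prod, Nat.card_eq_fintype_card (α := Bool), Fintype.card_bool] at this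
          have hV2 : Nat.card V ≤ 2 * (Nat.card A₀ * Nat.card (fixed A₀)) := by
            refine hbest.card_le.trans ?_
            rw [← mul_assoc]
            exact Nat.mul_le_mul hcard
              (AddSubgroup.card_le_of_le (fixed_antitone inf_le_left))
          by_cases h0 : A₀ = ⊥
          · refine false_of_single hV hK (hA.2 a ha) (hS a ha hn) ?_
            rw [h0, Subgroup.card_bot, mul_one] at hcard
            exact hbest.card_le.trans (Nat.mul_le_mul hcard (AddSubgroup.card_le_of_le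
              (fixed_antitone (Subgroup.zpowers_le.mpr ha))))
          · exact false_of_swap hV hK hS hA ha hn inf_le_left inf_le_right h0
              (fun b hb => hfaith b hb.1) (fun b hb c hc => hq b hb.1 c hc.1)
              (fun b hb => hq a ha b hb.1) hV2
      · refine false_of_odd_quadratic hV hp2 hK hS ha hn ?_
        rw [sub_mul, one_mul, sub_eq_zero]
        exact hq a ha a ha
    · -- a smaller quadratic offender
      have hBN : B ≤ Subgroup.normalizer (K : Set (Module.End ℤ V)ˣ) :=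
        ihn V hV K B hK (hsq2 B hBA) hBbest (hS.mono hBA)
          ((Subgroup.card_le_of_le hBA).lt_of_ne fun h => hBlt.ne (Subgroup.eq_of_le_of_card_ge hBA h.ge))
      obtain ⟨b, hb, hb1⟩ : ∃ b ∈ B, b ≠ 1 := by
        by_contra hcon
        push Not at hcon
        exact hBne ((Subgroup.eq_bot_iff_forall B).mpr hcon)
      by_cases hp2 : p = 2
      · subst hp2
        exact false_of_swap hV hK hS hA ha hn hBA hBN hBne (fun c hc => hfaith c (hBA hc))
          (fun c hc d hd => hkills d hd c (hBA hc)) (fun c hc => hkills c hc a ha)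
          (hBbest.card_le.trans (Nat.le_mul_of_pos_left _ (by norm_num)))
      · exact false_of_odd hV hp2 hK hS hA ha (hBA hb) hn (hBN hb) (hfaith b (hBA hb) hb1)
          (hkills b hb)

theorem le_normalizer_of_best (hV : ∀ v : V, p • v = 0) {K A : Subgroup Γ}
    (hK : Cfsg.IsQuasisimple K) (hA : Cfsg.IsElementaryAbelian p A) (hbest : Best A)
    (hS : Sep A K) : A ≤ Subgroup.normalizer (K : Set Γ) :=
  le_normalizer_aux (Nat.card A + 1) V hV K A hK hA hbest hS (Nat.lt_succ_self _)

end Cfsg.Agent.PGV
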