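import Cfsg.Agent.Lib.PGV.Orbit
import Cfsg.Agent.Lib.Coprime.Basic
import Cfsg.Agent.Lib.Involution.BaerSuzuki
import Cfsg.Agent.Lib.CharInt.Burnside
import Mathlib.Algebra.Ring.GeomSum
import Mathlib.GroupTheory.Perm.Basic

/-!
# A swapped pair of quasisimple subgroups and a small offender

`a` an involution moving the quasisimple `K` to a commuting conjugate, `B ≠ 1` an elementary abelian
`2`-group normalising `K`, acting faithfully on it, quadratically, commuting with `a` and centralising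
`[V, a]`, with `|V| ≤ 2 |B| |C_V(B)|`: impossible.

* `exists_inverted`: Baer–Suzuki gives an odd noncentral element of `K` inverted by `b`
* `false_of_transvection`: `a` cannot be (nearly) a transvection
* `false_of_swap`
-/

set_option autoImplicit false
set_option linter.style.haveILetI false
set_option linter.unusedSectionVars false

namespace Cfsg.Agent.PGV

universe u

open scoped commutatorElement

variable {V : Type u} [AddCommGroup V]

local notation "Γ" => (Module.End ℤ V)ˣ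
local notation "𝔼" => Module.End ℤ V

/-! ### Averaging over an element -/

/-- `∑_{i < |g|} g ^ i`. -/
noncomputable def avg (g : (Module.End ℤ V)ˣ) : Module.End ℤ V :=
  ∑ i ∈ Finset.range (orderOf g), (g : Module.End ℤ V) ^ i

theorem mul_avg (g : Γ) : (g : 𝔼) * avg g = avg g := by
  rw [← sub_eq_zero]
  calc (g : 𝔼) * avg g - avg g = ((g : 𝔼) - 1) * avg g := by noncomm_ring
    _ = (g : 𝔼) ^ orderOf g - 1 := mul_geom_sum _ _
    _ = 0 := by rw [← Units.val_pow_eq_pow_val, pow_orderOf_eq_one, Units.val_one, sub_self]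

theorem commute_avg {g : Γ} {T : 𝔼} (h : Commute (g : 𝔼) T) : Commute (avg g) T :=
  Commute.sum_left _ _ _ fun _ _ => h.pow_left _

theorem conj_avg (c g : Γ) : (c : 𝔼) * avg g = avg (c * g * c⁻¹) * (c : 𝔼) := by
  rw [avg, avg, orderOf_conj_eq, Finset.mul_sum, Finset.sum_mul]
  refine Finset.sum_congr rfl fun i _ => ?_
  rw [← Units.val_pow_eq_pow_val, ← Units.val_pow_eq_pow_val, ← Units.val_mul, ← Units.val_mul,
    conj_pow, inv_mul_cancel_right]

theorem nsmul_eq_self_of_odd (hV2 : ∀ v : V, (2 : ℕ) • v = 0) {n : ℕ} (hn : n.Coprime 2) (T : 𝔼) :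
    n • T = T := by
  obtain ⟨m, rfl⟩ := Nat.coprime_two_right.mp hn
  have h : (2 : 𝔼) = 0 := by exact_mod_cast natCast_end_eq_zero hV2
  rw [succ_nsmul, mul_comm, mul_nsmul, two_nsmul, ← two_mul, h, zero_mul, zero_add]

theorem avg_mul_of_fix (hV2 : ∀ v : V, (2 : ℕ) • v = 0) {g : Γ} (hg : (orderOf g).Coprime 2)
    {T : 𝔼} (h : (g : 𝔼) * T = T) : avg g * T = T := by
  have hpow : ∀ i : ℕ, (g : 𝔼) ^ i * T = T := fun i => by
    induction i with
    | zero => rw [pow_zero, one_mul]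
    | succ i ih => rw [pow_succ, mul_assoc, h, ih]
  rw [avg, Finset.sum_mul]
  simp only [hpow, Finset.sum_const, Finset.card_range]
  exact nsmul_eq_self_of_odd hV2 hg T

theorem avg_eq_of_fix (hV2 : ∀ v : V, (2 : ℕ) • v = 0) {g h : Γ} (hg : (orderOf g).Coprime 2)
    (hh : (orderOf h).Coprime 2) (h1 : (g : 𝔼) * avg h = avg h) (h2 : (h : 𝔼) * avg g = avg g)
    (hc : Commute (avg g) (avg h)) : avg g = avg h := by
  rw [← avg_mul_of_fix hV2 hh h2, ← hc.eq, avg_mul_of_fix hV2 hg h1]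

theorem eq_of_sq_apply (hV2 : ∀ v : V, (2 : ℕ) • v = 0) {g : Γ} (hg : (orderOf g).Coprime 2)
    {v : V} (h : (g : 𝔼) ((g : 𝔼) v) = v) : (g : 𝔼) v = v := by
  obtain ⟨m, hm⟩ := Nat.coprime_two_right.mp hg
  have h2 : ∀ j, ((g : 𝔼) ^ (2 * j)) v = v := fun j => by
    rw [pow_mul]
    refine apply_pow_eq_self ?_ j
    rw [sq]
    exact h
  have h1 : ((g : 𝔼) ^ (2 * m + 1)) v = v := by
    rw [← hm, ← Units.val_pow_eq_pow_val, pow_orderOf_eq_one, unit_one_apply]
  rw [pow_succ', Module.End.mul_apply, h2] at h1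
  exact h1

/-! ### An inverted element -/

/-- An involution acting nontrivially on a quasisimple group inverts an odd noncentral element. -/
theorem exists_inverted [Finite V] {K : Subgroup Γ} (hK : Cfsg.IsQuasisimple K) {b : Γ}
    (hb : b ∈ Subgroup.normalizer (K : Set Γ)) (hb2 : b * b = 1) (hne : ∃ x ∈ K, ¬ Commute b x) :
    ∃ x ∈ K, (orderOf x).Coprime 2 ∧ (∃ y ∈ K, ¬ Commute x y) ∧ b * x * b⁻¹ = x⁻¹ := by
  classical
  have hai : b⁻¹ = b := inv_eq_of_mul_eq_one_right hb2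
  set S : Subgroup Γ := K ⊔ Subgroup.zpowers b with hS
  have hSN : S ≤ Subgroup.normalizer (K : Set Γ) :=
    sup_le Subgroup.le_normalizer (Subgroup.zpowers_le.mpr hb)
  have hbS : b ∈ S := Subgroup.mem_sup_right (Subgroup.mem_zpowers b)
  let Zs : Subgroup S :=
    { carrier := {z | (z : Γ) ∈ K ∧ ∀ y ∈ K, Commute (z : Γ) y}
      one_mem' := ⟨one_mem K, fun y _ => Commute.one_left y⟩
      mul_mem' := fun hz hw => ⟨mul_mem hz.1 hw.1, fun y hy => (hz.2 y hy).mul_left (hw.2 y hy)⟩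
      inv_mem' := fun hz => ⟨inv_mem hz.1, fun y hy => (hz.2 y hy).inv_left⟩ }
  haveI hZn : Zs.Normal := ⟨fun z hz g => by
    have hg := hSN g.2
    refine ⟨(Subgroup.mem_normalizer_iff.mp hg z).mp hz.1, fun y hy => ?_⟩
    have h1 : (g : Γ)⁻¹ * y * g ∈ K := (Subgroup.mem_normalizer_iff''.mp hg y).mp hy
    have h2 := (hz.2 _ h1).map (MulAut.conj (g : Γ)).toMonoidHom
    simp only [MulEquiv.coe_toMonoidHom, MulAut.conj_apply] at h2
    rw [show (g : Γ) * ((g : Γ)⁻¹ * y * g) * (g : Γ)⁻¹ = y by group] at h2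
    exact h2⟩
  let π := QuotientGroup.mk' Zs
  set β : S ⧸ Zs := π ⟨b, hbS⟩ with hβ
  by_contra hcon
  push Not at hcon
  -- all pairs of conjugates of `β` generate `2`-groups
  have hpairs : ∀ g : S ⧸ Zs, IsPGroup 2 (Subgroup.closure ({β, g * β * g⁻¹} : Set (S ⧸ Zs))) := by
    intro g
    obtain ⟨⟨g, hg⟩, rfl⟩ := QuotientGroup.mk'_surjective Zs g
    obtain ⟨k, hk, j, hj, rfl⟩ := (Coprime.mem_sup_iff_of_le_normalizer'
      (Subgroup.zpowers_le.mpr hb)).mp (show g ∈ Subgroup.zpowers b ⊔ K by rwa [sup_comm])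
    obtain ⟨i, rfl⟩ := hj
    set d : Γ := k * b * k⁻¹ with hd
    have hdK : b * d ∈ K := by
      have h1 : b * k * b⁻¹ ∈ K := (Subgroup.mem_normalizer_iff.mp hb k).mp hk
      have h2 := mul_mem h1 (inv_mem hk)
      rw [hai] at h2
      rwa [hd, ← mul_assoc, ← mul_assoc]
    have hgd : k * b ^ i * b * (k * b ^ i)⁻¹ = d := by
      rw [hd, mul_assoc k, ← zpow_add_one, add_comm, zpow_one_add]
      group
    have hdd : d * d = 1 := by
      rw [hd, show k * b * k⁻¹ * (k * b * k⁻¹) = k * (b * b) * k⁻¹ by group, hb2]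
      group
    have hdS : d ∈ S := by
      rw [hd]
      exact mul_mem (mul_mem (Subgroup.mem_sup_left hk) hbS) (inv_mem (Subgroup.mem_sup_left hk))
    set δ : S ⧸ Zs := π ⟨d, hdS⟩ with hδ
    have hβ2 : β * β = 1 := by
      rw [hβ, ← map_mul]; exact (congrArg π (Subtype.ext hb2)).trans (map_one π)
    have hδ2 : δ * δ = 1 := by
      rw [hδ, ← map_mul]; exact (congrArg π (Subtype.ext hdd)).trans (map_one π)
    have hgδ : π ⟨k * b ^ i, hg⟩ * β * (π ⟨k * b ^ i, hg⟩)⁻¹ = δ := by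
      rw [hβ, hδ, ← map_inv, ← map_mul, ← map_mul]
      exact congrArg π (Subtype.ext hgd)
    rw [hgδ]
    -- the product is a `2`-element
    set e := 2 ^ (orderOf (b * d)).factorization 2 with he
    have hpow : (β * δ) ^ e = 1 := by
      by_contra hne1
      have hc : ¬ ((b * d) ^ e ∈ K ∧ ∀ y ∈ K, Commute ((b * d) ^ e) y) := by
        intro hmem
        apply hne1
        rw [hβ, hδ, ← map_mul, ← map_pow]
        exact (QuotientGroup.eq_one_iff _).mpr hmem
      simp only [pow_mem hdK e, true_and, not_forall] at hc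
      obtain ⟨y, hy, hcy⟩ := hc
      have hodd : (orderOf ((b * d) ^ e)).Coprime 2 := by
        rw [he, orderOf_pow, Nat.gcd_eq_right (Nat.ordProj_dvd _ _)]
        exact (Nat.coprime_ordCompl Nat.prime_two (orderOf_pos _).ne').symm
      refine hcon _ (pow_mem hdK e) hodd ⟨y, hy, hcy⟩ ?_
      rw [← conj_pow, Involution.invol_conj_mul hb2 hdd, inv_pow]
    rintro ⟨w, hw⟩
    obtain ⟨n, rfl | rfl⟩ := Involution.mem_closure_pair_cases hβ2 hδ2 hw
    · refine ⟨(orderOf (b * d)).factorization 2, Subtype.ext ?_⟩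
      show ((β * δ) ^ n) ^ e = 1
      rw [← zpow_natCast, ← zpow_mul, mul_comm, zpow_mul, zpow_natCast, hpow, one_zpow]
    · refine ⟨1, Subtype.ext ?_⟩
      show (β * (β * δ) ^ n) ^ 2 = 1
      rw [sq, mul_assoc, ← mul_assoc ((β * δ) ^ n),
        Involution.zpow_mul_invol (Involution.invol_conj_mul hβ2 hδ2), mul_assoc, ← mul_assoc β,
        hβ2, one_mul, ← zpow_add, neg_add_cancel, zpow_zero]
  have hP := Involution.baer_suzuki β hpairs
  set P := Subgroup.normalClosure ({β} : Set (S ⧸ Zs)) with hPdef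
  let ι : K →* S ⧸ Zs := π.comp (Subgroup.inclusion le_sup_left)
  haveI : (P.comap ι).Normal := inferInstance
  rcases Components.IsQuasisimple.normal_eq_top_or_le_center hK (P.comap ι) with htop | hle
  · refine Components.IsQuasisimple.not_isSolvable hK ?_
    haveI : Group.IsNilpotent P := hP.isNilpotent
    haveI : Group.IsSolvable P := inferInstance
    let ι' : K →* P := ι.codRestrict P fun y => (htop.ge (Subgroup.mem_top y) : y ∈ P.comap ι)
    haveI : Group.IsSolvable ι'.ker := Group.isSolvable_of_comm fun u v => Subtype.ext (Subtype.ext (by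
      have hu : ι u = 1 := congrArg Subtype.val u.2
      exact (((QuotientGroup.eq_one_iff _).mp hu).2 _ v.1.2).eq))
    exact Group.isSolvable_of_ker_le_range ι'.ker.subtype ι' (by rw [Subgroup.range_subtype])
  · obtain ⟨x, hx, hbx⟩ := hne
    refine hbx (commute_of_twist hK (fun y hy => (Subgroup.mem_normalizer_iff.mp hb y).mp hy)
      (fun y => hle ?_) x hx)
    show ι _ ∈ P
    have hβP : β ∈ P := Subgroup.subset_normalClosure rfl
    have h1 : ι y * β * (ι y)⁻¹ ∈ P := Subgroup.normalClosure_normal.conj_mem _ hβP _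
    have h2 := mul_mem h1 (inv_mem hβP)
    have e : ι (y * (⟨b * y * b⁻¹, (Subgroup.mem_normalizer_iff.mp hb y).mp y.2⟩ : K)⁻¹) =
        ι y * β * (ι y)⁻¹ * β⁻¹ := by
      show π _ = π _ * β * (π _)⁻¹ * β⁻¹
      simp only [hβ, ← map_inv, ← map_mul]
      refine congrArg π (Subtype.ext ?_)
      show (y : Γ) * (b * y * b⁻¹)⁻¹ = y * b * (y : Γ)⁻¹ * b⁻¹
      group
    rw [e]
    exact h2

/-! ### Transvections -/

theorem perm_small_pow_six {α : Type*} [Finite α] (h : Nat.card α ≤ 3) (σ : Equiv.Perm α) :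
    σ ^ 6 = 1 := by
  refine orderOf_dvd_iff_pow_eq_one.mp ((orderOf_dvd_natCard σ).trans ?_)
  rw [Nat.card_perm]
  exact (Nat.factorial_dvd_factorial h).trans (by norm_num [Nat.factorial])

theorem card_sup_le (U W : AddSubgroup V) [Finite V] :
    Nat.card ↥(U ⊔ W) ≤ Nat.card U * Nat.card W := by
  have h1 := AddSubgroup.relIndex_mul_relIndex ⊥ U (U ⊔ W) bot_le le_sup_left
  rw [AddSubgroup.relIndex_bot_left, AddSubgroup.relIndex_bot_left,
    AddSubgroup.relIndex_sup_left] at h1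
  rw [← h1]
  exact Nat.mul_le_mul_left _ (Nat.le_of_dvd Nat.card_pos (U.relIndex_dvd_card W))

/-- `a` moving `K` cannot have `(a - 1) T` of order at most two, for a `T` seeing all of `K`. -/
theorem false_of_transvection [Finite V] (hV2 : ∀ v : V, (2 : ℕ) • v = 0) {K : Subgroup Γ}
    (hK : Cfsg.IsQuasisimple K) {a : Γ} (ha2 : a ^ 2 = 1)
    (hc : ∀ x ∈ K, ∀ y ∈ K, Commute (a * x * a⁻¹) y) (T : AddSubgroup V)
    (hTK : ∀ y ∈ K, ∀ t ∈ T, (y : 𝔼) t ∈ T) (hTa : ∀ t ∈ T, (a : 𝔼) t ∈ T)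
    (hJ : Nat.card (T.map ((a : 𝔼) - 1).toAddMonoidHom) ≤ 2)
    (hdec : ∀ v : V, ∃ t ∈ T, ∀ y ∈ K, (y : 𝔼) (v - t) = v - t ∧
      ((a * y * a⁻¹ : Γ) : 𝔼) (v - t) = v - t) : False := by
  classical
  have hai : a⁻¹ = a := inv_eq_of_mul_eq_one_right (by rw [← sq, ha2])
  have key : ∀ y ∈ K, ∀ w ∈ K, Commute (y ^ 12) w := by
    intro y hy w hw
    set g : Γ := y * (a * y⁻¹ * a⁻¹) with hg
    set fa := ((a : 𝔼) - 1).toAddMonoidHom with hfa
    set J := T.map fa with hJdef
    set U := J ⊔ J.map (y : 𝔼).toAddMonoidHom with hU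
    have hUcard : Nat.card U ≤ 4 := by
      refine (card_sup_le _ _).trans ?_
      have h2 : Nat.card (J.map (y : 𝔼).toAddMonoidHom) ≤ 2 :=
        (Nat.le_of_dvd Nat.card_pos (AddSubgroup.card_map_dvd _ _)).trans hJ
      calc _ ≤ 2 * 2 := Nat.mul_le_mul hJ h2
        _ = 4 := rfl
    have hJT : J ≤ T := by
      rintro _ ⟨t, ht, rfl⟩
      exact sub_mem (hTa t ht) ht
    have hUT : U ≤ T := sup_le hJT (by rintro _ ⟨u, hu, rfl⟩; exact hTK y hy u (hJT hu))
    have hgt : ∀ t ∈ T, (g : 𝔼) t - t ∈ U := by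
      intro t ht
      set s := ((y⁻¹ : Γ) : 𝔼) ((a : 𝔼) t) with hs
      have hsT : s ∈ T := hTK _ (inv_mem hy) _ (hTa t ht)
      have e : (g : 𝔼) t - t = (y : 𝔼) (fa s) + fa t := by
        rw [hg, hai]
        show (y : 𝔼) ((a : 𝔼) s) - t = (y : 𝔼) ((a : 𝔼) s - s) + ((a : 𝔼) t - t)
        rw [map_sub, hs, unit_apply_inv]
        abel
      rw [e]
      exact add_mem (AddSubgroup.mem_sup_right ⟨_, ⟨s, hsT, rfl⟩, rfl⟩)
        (AddSubgroup.mem_sup_left ⟨t, ht, rfl⟩)
    have hgU : ∀ u ∈ U, (g : 𝔼) u ∈ U := fun u hu => by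
      simpa using add_mem (hgt u (hUT hu)) hu
    have h6 : ∀ u ∈ U, ((g : 𝔼) ^ 6) u = u := by
      intro u hu
      rcases eq_or_ne u 0 with rfl | hu0
      · exact map_zero _
      let α := {u : U // u ≠ 0}
      let f : α → α := fun q => ⟨⟨(g : 𝔼) q.1, hgU _ q.1.2⟩, fun h => q.2 (Subtype.ext
        (unit_injective g ((congrArg Subtype.val h).trans (map_zero _).symm)))⟩
      have hf : Function.Injective f := fun q r h => Subtype.ext (Subtype.ext
        (unit_injective g (congrArg (fun z : α => ((z : U) : V)) h)))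
      let σ : Equiv.Perm α := Equiv.ofBijective f (Finite.injective_iff_bijective.mp hf)
      have hcard : Nat.card α ≤ 3 := by
        haveI := Fintype.ofFinite U
        rw [Nat.card_eq_fintype_card, Fintype.card_subtype_compl, Fintype.card_subtype_eq,
          ← Nat.card_eq_fintype_card]
        omega
      have hiter : ∀ (n : ℕ) (q : α), (((σ ^ n) q : U) : V) = ((g : 𝔼) ^ n) q.1 := by
        intro n
        induction n with
        | zero => intro q; rfl
        | succ n ih =>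
          intro q
          rw [pow_succ', Equiv.Perm.mul_apply, pow_succ', Module.End.mul_apply, ← ih]
          rfl
      have := hiter 6 ⟨⟨u, hu⟩, fun h => hu0 (congrArg Subtype.val h)⟩
      rw [perm_small_pow_six hcard, Equiv.Perm.one_apply] at this
      exact this.symm
    have hgn : ∀ n : ℕ, ∀ t ∈ T, ((g : 𝔼) ^ n) t - t ∈ U := by
      intro n
      induction n with
      | zero => intro t _; simp
      | succ n ih =>
        intro t ht
        rw [pow_succ', Module.End.mul_apply,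
          show (g : 𝔼) (((g : 𝔼) ^ n) t) - t =
            (g : 𝔼) (((g : 𝔼) ^ n) t - t) + ((g : 𝔼) t - t) by rw [map_sub]; abel]
        exact add_mem (hgU _ (ih t ht)) (hgt t ht)
    have h12 : ∀ t ∈ T, ((y ^ 12 : Γ) : 𝔼) t = ((a * y ^ 12 * a⁻¹ : Γ) : 𝔼) t := by
      intro t ht
      have hu := hgn 6 t ht
      have h1 : ((g : 𝔼) ^ 12) t = t := by
        rw [show 12 = 6 + 6 from rfl, pow_add, Module.End.mul_apply]
        conv_lhs => rw [← add_sub_cancel t (((g : 𝔼) ^ 6) t)]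
        rw [map_add, h6 _ hu]
        have h2 := hV2 (((g : 𝔼) ^ 6) t - t)
        rw [two_nsmul] at h2
        rw [show ((g : 𝔼) ^ 6) t + (((g : 𝔼) ^ 6) t - t) =
          t + ((((g : 𝔼) ^ 6) t - t) + (((g : 𝔼) ^ 6) t - t)) by abel, h2, add_zero]
      have hcy : Commute y (a * y⁻¹ * a⁻¹) := (hc _ (inv_mem hy) y hy).symm
      rw [← Units.val_pow_eq_pow_val, hg, hcy.mul_pow, conj_pow, inv_pow] at h1
      have hc12 := hc _ (pow_mem (inv_mem hy) 12) _ (pow_mem hy 12)
      rw [inv_pow] at hc12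
      rw [← hc12.eq, unit_mul_apply] at h1
      apply unit_injective (a * (y ^ 12)⁻¹ * a⁻¹)
      rw [h1, ← unit_mul_apply, show a * (y ^ 12)⁻¹ * a⁻¹ * (a * y ^ 12 * a⁻¹) = 1 by group]
      rfl
    refine Units.ext (LinearMap.ext fun v => ?_)
    obtain ⟨t, ht, hfix⟩ := hdec v
    have hl := hc (y ^ 12) (pow_mem hy 12) w hw
    rw [show v = t + (v - t) by abel, map_add, map_add, unit_mul_apply, unit_mul_apply,
      unit_mul_apply, unit_mul_apply, (hfix w hw).1, (hfix _ (pow_mem hy 12)).1, (hfix w hw).1]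
    congr 1
    rw [h12 _ (hTK w hw t ht), h12 t ht, apply_comm_of_commute hl]
  -- so `K / Z(K)` is a `{2, 3}`-group
  have hQ : ∀ q : ↥K ⧸ Subgroup.center K, q ^ 12 = 1 := by
    intro q
    obtain ⟨y, rfl⟩ := QuotientGroup.mk_surjective q
    rw [← QuotientGroup.mk_pow, QuotientGroup.eq_one_iff, Subgroup.mem_center_iff]
    intro w
    exact Subtype.ext (key y y.2 w w.2).eq.symm
  set n := Nat.card (↥K ⧸ Subgroup.center K) with hn
  have hn0 : n ≠ 0 := Nat.card_pos.ne'
  have hpr : ∀ r : ℕ, r.Prime → r ∣ n → r = 2 ∨ r = 3 := by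
    intro r hr hd
    haveI := Fact.mk hr
    obtain ⟨q, hq⟩ := exists_prime_orderOf_dvd_card' r hd
    have h12 : r ∣ 2 ^ 2 * 3 := hq ▸ orderOf_dvd_of_pow_eq_one (hQ q)
    rcases hr.dvd_mul.mp h12 with h | h
    · exact Or.inl ((Nat.prime_dvd_prime_iff_eq hr Nat.prime_two).mp (hr.dvd_of_dvd_pow h))
    · exact Or.inr ((Nat.prime_dvd_prime_iff_eq hr Nat.prime_three).mp h)
  set m := n / 2 ^ n.factorization 2 with hm
  have hm3 : ∀ {r : ℕ}, r.Prime → r ∣ m → r = 3 := by
    intro r hr hd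
    rcases hpr r hr (hd.trans (Nat.ordCompl_dvd n 2)) with rfl | rfl
    · exact absurd hd (Nat.not_dvd_ordCompl Nat.prime_two hn0)
    · rfl
  obtain ⟨j, hj⟩ : ∃ j, m = 3 ^ j :=
    ⟨_, Nat.eq_prime_pow_of_unique_prime_dvd (Nat.ordCompl_pos 2 hn0).ne' hm3⟩
  have hcard : Nat.card (↥K ⧸ Subgroup.center K) = 2 ^ n.factorization 2 * 3 ^ j := by
    rw [← hj, hm, Nat.ordProj_mul_ordCompl_eq_self]
  haveI : Group.IsSolvable (↥K ⧸ Subgroup.center K) :=
    CharInt.isSolvable_of_card_eq Nat.prime_two Nat.prime_three hcard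
  haveI : Group.IsSolvable (Subgroup.center K) :=
    Group.isSolvable_of_comm fun x y => Subtype.ext (Subgroup.mem_center_iff.mp y.2 x)
  exact Components.IsQuasisimple.not_isSolvable hK
    (Group.isSolvable_of_ker_le_range (Subgroup.center K).subtype
      (QuotientGroup.mk' (Subgroup.center K))
      (by rw [QuotientGroup.ker_mk', Subgroup.range_subtype]))

end Cfsg.Agent.PGV
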